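import Cfsg.Agent.StdDoubleRu.Collect
import Cfsg.Agent.StdDoubleRu.Data

/-!
The Sylow `2`-subgroup of the double cover of `Ru`: every involution other than `-1` is conjugate in
the double cover to one of two central ones, which are squares of elements of the third term of the
lower central series, while `-1` is not such a square.
-/

set_option autoImplicit false
set_option Elab.async false

namespace CfsgLib.StdDoubleRu

open Cfsg.Spor CfsgLib.Ru
open CfsgLib.Schur.Pc (ev tailSubgroup gen_mem_tailSubgroup tailSubgroup_mono)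
open scoped commutatorElement

/-- The central involution `-1`. -/
def zN : ℕ := 3072

/-- The two roots of the fusion certificate. -/
def isRoot (v : ℕ) : Bool := v == 16384 || v == 19456

/-! ### Squares and prefixes -/

/-- The prefix may extend to an element squaring to one. -/
noncomputable def sqOk (k v : ℕ) : Bool :=
  match mulO v v with
  | some r => Nat.beq (r % 2 ^ k) 0
  | none => true

/-- The prefixes that may extend to an element squaring to one. -/
noncomputable def surv (k : ℕ) : List ℕ :=
  Nat.rec [0] (fun j ih => (ih.flatMap fun p => force p fun p => force (p + 2 ^ j) fun q =>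
    [p, q]).filter (sqOk (j + 1))) k

theorem val_mod_split {k : ℕ} (hk : k ≤ 15) (v : ℕ) :
    val v = val (v % 2 ^ k) * upper k v := by
  rw [val_split hk v, val, bitsK_of_lt (Nat.mod_lt _ (Nat.two_pow_pos k)) 15 hk]
  congr 2
  exact bitsK_congr fun i hi => by simp [hi]

theorem sq_prefix_mem {k v : ℕ} (hk : k ≤ 15) (h : val v * val v = 1) :
    val (v % 2 ^ k) * val (v % 2 ^ k) ∈ tailSubgroup yEl 15 k := by
  rw [val_mod_split hk v] at h
  set p := val (v % 2 ^ k)
  set t := upper k v
  have ht : t ∈ tailSubgroup yEl 15 k := upper_mem hk v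
  have e : p * p * (p⁻¹ * t * p * t) = 1 :=
    Eq.trans (by group) h
  rw [eq_inv_of_mul_eq_one_left e]
  refine inv_mem (mul_mem ?_ ht)
  simpa using tail_conj (inv_mem (val_mem_P2 (v % 2 ^ k))) ht

theorem mem_surv {v : ℕ} (hv : v < 2 ^ 15) (h : val v * val v = 1) :
    ∀ k, k ≤ 15 → v % 2 ^ k ∈ surv k := by
  intro k hk
  induction k with
  | zero => simp [surv, Nat.mod_one]
  | succ k ih =>
    show v % 2 ^ (k + 1) ∈ ((surv k).flatMap fun p => force p fun p => force (p + 2 ^ k) fun q =>
      [p, q]).filter (sqOk (k + 1))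
    refine List.mem_filter.2 ⟨List.mem_flatMap.2 ⟨_, ih (by omega), ?_⟩, ?_⟩
    · rw [mod_two_pow_succ, force_eq, force_eq]
      cases v.testBit k <;> simp
    · have hlt : v % 2 ^ (k + 1) < 2 ^ 15 := lt_of_le_of_lt (Nat.mod_le _ _) hv
      rw [sqOk]
      split
      · rename_i r hr
        obtain ⟨hr1, hr2⟩ := mulO_sound hlt hr
        rw [mod_eq_zero_of_val_mem hk (hr2 ▸ sq_prefix_mem hk h)]
        rfl
      · rfl

/-! ### The fusion certificate -/

/-- The element of an entry. -/
def eV (e : ℕ) : ℕ := e % 32768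
/-- The kind of an entry. -/
def eKind (e : ℕ) : ℕ := e / 2 ^ 15 % 8
/-- The parameter of an entry. -/
def ePar (e : ℕ) : ℕ := e / 2 ^ 18 % 4
/-- The parent of an entry. -/
def eUp (e : ℕ) : ℕ := e / 2 ^ 20 % 1024
/-- The word of an entry. -/
def eWord (e : ℕ) : List ℕ :=
  (List.range (e / 2 ^ 30 % 8)).map fun i => e / 2 ^ (33 + 4 * i) % 16

/-- One side of a fusion applied to a word. -/
def fusSide (S : List (List ℕ)) (w : List ℕ) : List ℕ := w.flatMap fun s => S.getD s []

/-- The first or second side of fusion `f`. -/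
noncomputable def sideA (f : ℕ) : List (List ℕ) := (cert2.fus.getD f ([], [])).1
/-- The second side of fusion `f`. -/
noncomputable def sideB (f : ℕ) : List (List ℕ) := (cert2.fus.getD f ([], [])).2

/-- An entry is justified, `u` being its parent. -/
noncomputable def okEntry (i e u : ℕ) : Bool :=
  Nat.blt (eV e) 32768 &&
  (isRoot (eV e) ||
    (Nat.blt (eUp e) i && Nat.blt (ePar e) 3 &&
      ((Nat.beq (eKind e) 1 && (mulO (eV e) (2 ^ ePar e)).isSome &&
          (mulO (eV e) (2 ^ ePar e) == mulO (2 ^ ePar e) u)) ||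
        (Nat.beq (eKind e) 3 &&
          (wordO 0 (fusSide (sideA (ePar e)) (eWord e)) == some (eV e)) &&
          (wordO 0 (fusSide (sideB (ePar e)) (eWord e)) == some u)) ||
        (Nat.beq (eKind e) 4 &&
          (wordO 0 (fusSide (sideA (ePar e)) (eWord e)) == some u) &&
          (wordO 0 (fusSide (sideB (ePar e)) (eWord e)) == some (eV e))))))

/-- The entry with a given number. -/
def certAt (i : ℕ) : ℕ := (invRows.getD (i / 32) []).getD (i % 32) 0

/-- All entries are justified. -/
noncomputable def okCert : Bool :=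
  (List.range invCount).all fun i =>
    force (certAt i) fun e => force (eV (certAt (eUp e))) fun u => okEntry i e u

theorem okCert_true : okCert = true := by decide +kernel

/-- The element found at a step of the search. -/
def survVal (i : ℕ) : ℕ :=
  bif Nat.blt i invCount then eV (certAt i) else bif Nat.beq i invCount then 0 else zN

/-- The surviving full prefixes are trivial, `-1` or certified. -/
noncomputable def okSurv : Bool := surv 15 == survIdx.map survVal

theorem okSurv_true : okSurv = true := by decide +kernel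

theorem side_lt : ∀ f < 3, ((sideA f).all fun l => l.all fun c => Nat.blt c 15) = true ∧
    ((sideB f).all fun l => l.all fun c => Nat.blt c 15) = true := by
  decide +kernel

theorem fusSide_lt {S : List (List ℕ)} (hS : (S.all fun l => l.all fun c => Nat.blt c 15) = true)
    (w : List ℕ) : ∀ c ∈ fusSide S w, c < 15 := by
  intro c hc
  obtain ⟨s, -, hs⟩ := List.mem_flatMap.1 hc
  by_cases h : s < S.length
  · rw [List.getD_eq_getElem _ _ h] at hs
    exact Nat.le_of_ble_eq_true (List.all_eq_true.1 (List.all_eq_true.1 hS _ (List.getElem_mem h)) c hs)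
  · rw [List.getD_eq_default _ _ (not_lt.1 h)] at hs
    exact absurd hs (List.not_mem_nil)

/-- Conjugate in the double cover to one of the roots. -/
def ToRoot (x : fourRu) : Prop :=
  ∃ g ∈ twoRu, ∃ v, isRoot v = true ∧ g * x * g⁻¹ = val v

theorem ToRoot.conj {x y g : fourRu} (hg : g ∈ twoRu) (e : g * x * g⁻¹ = y) (hy : ToRoot y) :
    ToRoot x := by
  obtain ⟨h, hh, v, hv, hv'⟩ := hy
  exact ⟨h * g, mul_mem hh hg, v, hv, by rw [← hv', ← e]; group⟩

/-- The fusions conjugate the first side into the second. -/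
theorem fus_conj {f : ℕ} (hf : f < 3) {w : List ℕ} (hw : ∀ s ∈ w, s < 16) :
    ∃ g ∈ twoRu, g * ev yEl (fusSide (sideA f) w) * g⁻¹ = ev yEl (fusSide (sideB f) w) := by
  obtain ⟨n, hn⟩ := exists_conj (welem (fusWords.getD f []))
  refine ⟨n, n.2, ?_⟩
  have hs : ∀ s < 16, (n : fourRu) * ev yEl ((sideA f).getD s []) * (n : fourRu)⁻¹ =
      ev yEl ((sideB f).getD s []) := by
    intro s hs
    rw [hn, mul_inv_eq_iff_eq_mul, show yEl = wgen yWords from rfl, ev_wgen, ev_wgen,
      ← welem_append, ← welem_append]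
    have h := okFus_true
    simp only [okFus, List.all_eq_true, List.mem_range] at h
    exact welem_eq (h f hf s hs)
  induction w with
  | nil => simp [fusSide]
  | cons s w ih =>
    rw [show fusSide (sideA f) (s :: w) = (sideA f).getD s [] ++ fusSide (sideA f) w from
        List.flatMap_cons,
      show fusSide (sideB f) (s :: w) = (sideB f).getD s [] ++ fusSide (sideB f) w from
        List.flatMap_cons, Schur.Pc.ev_append, Schur.Pc.ev_append, ← hs s (hw s (by simp)),
      ← ih fun x hx => hw x (by simp [hx])]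
    group

theorem eWord_lt (e : ℕ) : ∀ s ∈ eWord e, s < 16 := by
  intro s hs
  obtain ⟨i, -, rfl⟩ := List.mem_map.1 hs
  exact Nat.mod_lt _ (by norm_num)

theorem toRoot_entry : ∀ i < invCount, ToRoot (val (eV (certAt i))) := by
  intro i
  induction i using Nat.strong_induction_on with
  | _ i ih =>
    intro hi
    have h := okCert_true
    simp only [okCert, List.all_eq_true, List.mem_range, force_eq] at h
    have h := h i hi
    set e := certAt i
    set u := eV (certAt (eUp e))
    simp only [okEntry, Bool.and_eq_true, Bool.or_eq_true, beq_iff_eq] at h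
    obtain ⟨hv, h⟩ := h
    have hv' : eV e < 2 ^ 15 := Nat.le_of_ble_eq_true hv
    rcases h with h | ⟨⟨hup, hpar⟩, h⟩
    · exact ⟨1, one_mem _, eV e, h, by rw [inv_one, mul_one, one_mul]⟩
    have hup' : eUp e < i := Nat.le_of_ble_eq_true hup
    have hu := ih _ hup' (hup'.trans hi)
    have hu' : u < 2 ^ 15 := Nat.mod_lt _ (by norm_num)
    have hp : ePar e < 3 := Nat.le_of_ble_eq_true hpar
    rcases h with (⟨⟨-, hsome⟩, he⟩ | ⟨⟨-, hA⟩, hB⟩) | ⟨⟨-, hA⟩, hB⟩
    · obtain ⟨r, hr⟩ := Option.isSome_iff_exists.1 hsome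
      have h2 : 2 ^ ePar e < 2 ^ 15 := Nat.pow_lt_pow_right (by norm_num) (by omega)
      have e1 := (mulO_sound hv' hr).2
      have e2 := (mulO_sound h2 (he ▸ hr)).2
      rw [val_two_pow (by omega : ePar e < 15)] at e1 e2
      refine ToRoot.conj (g := (yEl (ePar e))⁻¹) (inv_mem (P2_le_twoRu ?_)) ?_ hu
      · rw [← val_two_pow (by omega : ePar e < 15)]; exact val_mem_P2 _
      · rw [inv_inv, mul_assoc, ← e1, e2, inv_mul_cancel_left]
    · obtain ⟨g, hg, hgw⟩ := fus_conj hp (eWord_lt e)
      have e1 := (wordO_sound (by norm_num) (fusSide_lt (side_lt _ hp).1 _) hA).2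
      have e2 := (wordO_sound (by norm_num) (fusSide_lt (side_lt _ hp).2 _) hB).2
      rw [val_zero, one_mul] at e1 e2
      exact ToRoot.conj hg (by rw [e1, e2, hgw]) hu
    · obtain ⟨g, hg, hgw⟩ := fus_conj hp (eWord_lt e)
      have e1 := (wordO_sound (by norm_num) (fusSide_lt (side_lt _ hp).1 _) hA).2
      have e2 := (wordO_sound (by norm_num) (fusSide_lt (side_lt _ hp).2 _) hB).2
      rw [val_zero, one_mul] at e1 e2
      exact ToRoot.conj (inv_mem hg) (by rw [e1, e2, ← hgw]; group) hu

theorem exists_survVal {v : ℕ} (hv : v < 2 ^ 15) (h : val v * val v = 1) :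
    ∃ i ∈ survIdx, v = survVal i := by
  have hm := mem_surv hv h 15 le_rfl
  rw [Nat.mod_eq_of_lt hv, (beq_iff_eq.1 okSurv_true : surv 15 = survIdx.map survVal),
    List.mem_map] at hm
  obtain ⟨i, hi, e⟩ := hm
  exact ⟨i, hi, e.symm⟩

/-- An involution of the Sylow subgroup other than `-1` is conjugate to a root. -/
theorem toRoot_of_sq {v : ℕ} (hv : v < 2 ^ 15) (h : val v * val v = 1) (h0 : v ≠ 0) (hz : v ≠ zN) :
    ToRoot (val v) := by
  obtain ⟨i, -, rfl⟩ := exists_survVal hv h
  rw [survVal] at h0 hz ⊢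
  by_cases hi : i < invCount
  · rw [show Nat.blt i invCount = true from Nat.ble_eq_true_of_le hi, cond_true]
    exact toRoot_entry i hi
  · rw [show Nat.blt i invCount = false by
      rw [← Bool.not_eq_true]; exact fun e => hi (Nat.le_of_ble_eq_true e), cond_false] at h0 hz
    cases hb : Nat.beq i invCount <;> rw [hb] at h0 hz
    · exact absurd rfl hz
    · exact absurd rfl h0

/-! ### The central involutions -/

/-- A prefix that survives and is not one of the four has a generator it does not commute with. -/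
noncomputable def okCentral : Bool :=
  survIdx.all fun i => force (survVal i) fun v => Nat.beq v 0 || Nat.beq v zN || isRoot v ||
    (List.range 3).any fun a =>
      match mulO v (2 ^ a), mulO (2 ^ a) v with
      | some r, some s => !Nat.beq r s
      | _, _ => false

theorem okCentral_true : okCentral = true := by decide +kernel

theorem central_cases {v : ℕ} (hv : v < 2 ^ 15) (h : val v * val v = 1)
    (hc : ∀ g ∈ P2, g * val v = val v * g) : v = 0 ∨ v = zN ∨ isRoot v = true := by
  obtain ⟨i, hi, hiv⟩ := exists_survVal hv h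
  have hs := List.all_eq_true.1 okCentral_true i hi
  rw [force_eq, ← hiv] at hs
  simp only [Bool.or_eq_true, List.any_eq_true, List.mem_range] at hs
  rcases hs with ((hs | hs) | hs) | ⟨a, ha, hs⟩
  · exact Or.inl (Nat.eq_of_beq_eq_true hs)
  · exact Or.inr (Or.inl (Nat.eq_of_beq_eq_true hs))
  · exact Or.inr (Or.inr hs)
  split at hs
  · rename_i r s hr hs'
    obtain ⟨hr1, hr2⟩ := mulO_sound hv hr
    obtain ⟨hs1, hs2⟩ := mulO_sound (Nat.pow_lt_pow_right (by norm_num) (by omega)) hs'
    have : r = s := val_injective hr1 hs1 (by rw [hr2, hs2]; exact (hc _ (val_mem_P2 _)).symm)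
    subst this
    simp at hs
  · exact absurd hs (by simp)

/-! ### The third term of the lower central series -/

/-- The third term of the lower central series. -/
noncomputable def gammaThree : Subgroup fourRu := ⁅⁅P2, P2⁆, P2⁆

theorem commutator_mem_of_eq {a b c : ℕ} {r : ℕ} (ha : a < 2 ^ 15) (_hb : b < 2 ^ 15) (hc : c < 2 ^ 15)
    (h1 : mulO a b = some r) (h2 : ((mulO c b).bind fun s => mulO s a) = some r) :
    val c = ⁅val a, val b⁆ := by
  obtain ⟨-, e1⟩ := mulO_sound ha h1
  obtain ⟨s, hs, hs'⟩ := Option.bind_eq_some_iff.1 h2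
  obtain ⟨hs1, e2⟩ := mulO_sound hc hs
  obtain ⟨-, e3⟩ := mulO_sound hs1 hs'
  rw [commutatorElement_def, ← e1, e3, e2]
  group

/-- The data `(u, a, b, c, d)`: `c = [a, b]` and `u = [c, d]` squares to a root. -/
def gammaData : List (ℕ × ℕ × ℕ × ℕ × ℕ) := [(14144, 1, 2, 2096, 4), (7936, 1, 2, 2096, 6699)]

/-- The data are right. -/
noncomputable def okGamma : Bool :=
  gammaData.all fun (u, a, b, c, d) =>
    Nat.blt u 32768 && Nat.blt a 32768 && Nat.blt b 32768 && Nat.blt c 32768 && Nat.blt d 32768 &&
      (mulO a b).isSome && (((mulO c b).bind fun s => mulO s a) == mulO a b) &&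
      (mulO c d).isSome && (((mulO u d).bind fun s => mulO s c) == mulO c d)

theorem okGamma_true : okGamma = true := by decide +kernel

theorem gamma_squares : mulO 14144 14144 = some 19456 ∧ mulO 7936 7936 = some 16384 := by
  decide +kernel

theorem root_square {v : ℕ} (h : isRoot v = true) :
    ∃ w ∈ gammaThree, w * w = val v := by
  have key : ∀ t ∈ gammaData, val t.1 ∈ gammaThree := by
    rintro ⟨u, a, b, c, d⟩ ht
    have h := List.all_eq_true.1 okGamma_true _ ht
    simp only [Bool.and_eq_true, beq_iff_eq] at h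
    obtain ⟨⟨⟨⟨⟨⟨⟨⟨hu, ha⟩, hb⟩, hc⟩, hd⟩, hab⟩, hab'⟩, hcd⟩, hcd'⟩ := h
    obtain ⟨r, hr⟩ := Option.isSome_iff_exists.1 hab
    obtain ⟨s, hs⟩ := Option.isSome_iff_exists.1 hcd
    rw [commutator_mem_of_eq (Nat.le_of_ble_eq_true hc) (Nat.le_of_ble_eq_true hd) (Nat.le_of_ble_eq_true hu) hs (hcd'.trans hs)]
    refine Subgroup.commutator_mem_commutator ?_ (val_mem_P2 _)
    rw [commutator_mem_of_eq (Nat.le_of_ble_eq_true ha) (Nat.le_of_ble_eq_true hb) (Nat.le_of_ble_eq_true hc) hr (hab'.trans hr)]
    exact Subgroup.commutator_mem_commutator (val_mem_P2 _) (val_mem_P2 _)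
  simp only [isRoot, Bool.or_eq_true, beq_iff_eq] at h
  rcases h with rfl | rfl
  · exact ⟨_, key _ (List.mem_cons_of_mem _ List.mem_cons_self),
      ((mulO_sound (by norm_num) gamma_squares.2).2).symm⟩
  · exact ⟨_, key _ List.mem_cons_self, ((mulO_sound (by norm_num) gamma_squares.1).2).symm⟩

/-- The generators commute modulo a tail. -/
noncomputable def okTail (k a b : ℕ) : Bool :=
  match mulO (2 ^ a) (2 ^ b), mulO (2 ^ b) (2 ^ a) with
  | some r, some s => Nat.beq (r % 2 ^ k) (s % 2 ^ k)
  | _, _ => false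

theorem okTail_three : ∀ a < 15, ∀ b < 15, okTail 3 a b = true := by decide +kernel

theorem okTail_six : ∀ a < 15, 3 ≤ a → ∀ b < 15, okTail 6 a b = true := by decide +kernel

theorem commutator_tail {k j : ℕ} (hk : k ≤ 15)
    (h : ∀ a < 15, j ≤ a → ∀ b < 15, okTail k a b = true) :
    ⁅tailSubgroup yEl 15 j, P2⁆ ≤ tailSubgroup yEl 15 k := by
  set T := tailSubgroup yEl 15 k
  have hgen : ∀ a < 15, j ≤ a → ∀ b < 15, ⁅yEl a, yEl b⁆ ∈ T := by
    intro a ha hja b hb
    have h' := h a ha hja b hb
    rw [okTail] at h'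
    split at h'
    · rename_i r s hr hs
      obtain ⟨-, e1⟩ := mulO_sound (Nat.pow_lt_pow_right (by norm_num) ha) hr
      obtain ⟨-, e2⟩ := mulO_sound (Nat.pow_lt_pow_right (by norm_num) hb) hs
      rw [val_two_pow ha, val_two_pow hb] at e1 e2
      have hrs : r % 2 ^ k = s % 2 ^ k := Nat.eq_of_beq_eq_true h'
      have e : ⁅yEl a, yEl b⁆ = val (r % 2 ^ k) * (upper k r * (upper k s)⁻¹) * (val (r % 2 ^ k))⁻¹ := by
        calc ⁅yEl a, yEl b⁆ = val r * (val s)⁻¹ := by rw [e1, e2, commutatorElement_def]; group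
          _ = _ := by
            conv_lhs => rw [val_mod_split hk r, val_mod_split hk s, ← hrs]
            group
      rw [e]
      exact tail_conj (val_mem_P2 _) (mul_mem (upper_mem hk _) (inv_mem (upper_mem hk _)))
    · exact absurd h' (by simp)
  have hP : ∀ x ∈ tailSubgroup yEl 15 j, x ∈ P2 := fun x hx =>
    tailSubgroup_mono yEl (Nat.zero_le j) hx
  have h1 : ∀ b < 15, ∀ x ∈ tailSubgroup yEl 15 j, ⁅x, yEl b⁆ ∈ T := by
    intro b hb x hx
    induction hx using Subgroup.closure_induction with
    | mem x hx => obtain ⟨a, ⟨ha1, ha2⟩, rfl⟩ := hx; exact hgen a ha2 ha1 b hb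
    | one => rw [commutatorElement_one_left]; exact one_mem _
    | mul x y hx hy ihx ihy =>
      have e : ⁅x * y, yEl b⁆ = x * ⁅y, yEl b⁆ * x⁻¹ * ⁅x, yEl b⁆ := by
        simp only [commutatorElement_def]; group
      rw [e]
      exact mul_mem (tail_conj (hP x hx) ihy) ihx
    | inv x hx ihx =>
      have e : ⁅x⁻¹, yEl b⁆ = x⁻¹ * ⁅x, yEl b⁆⁻¹ * x⁻¹⁻¹ := by
        simp only [commutatorElement_def]; group
      rw [e]
      exact tail_conj (inv_mem (hP x hx)) (inv_mem ihx)
  rw [Subgroup.commutator_le]
  intro x hx g hg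
  induction hg using Subgroup.closure_induction with
  | mem g hg => obtain ⟨b, ⟨-, hb⟩, rfl⟩ := hg; exact h1 b hb x hx
  | one => rw [commutatorElement_one_right]; exact one_mem _
  | mul g g' hg hg' ihg ihg' =>
    have e : ⁅x, g * g'⁆ = ⁅x, g⁆ * (g * ⁅x, g'⁆ * g⁻¹) := by
      simp only [commutatorElement_def]; group
    rw [e]
    exact mul_mem ihg (tail_conj hg ihg')
  | inv g hg ihg =>
    have e : ⁅x, g⁻¹⁆ = g⁻¹ * ⁅x, g⁆⁻¹ * g⁻¹⁻¹ := by
      simp only [commutatorElement_def]; group
    rw [e]
    exact tail_conj (inv_mem hg) (inv_mem ihg)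

theorem gammaThree_le : gammaThree ≤ tailSubgroup yEl 15 6 :=
  (Subgroup.commutator_mono (commutator_tail (j := 0) (by norm_num) fun a ha _ => okTail_three a ha)
      le_rfl).trans
    (commutator_tail (by norm_num) okTail_six)

/-- No element of the sixth tail squares to `-1`. -/
noncomputable def okTailSq : Bool :=
  (List.range 512).all fun j =>
    match mulO (64 * j) (64 * j) with
    | some r => !Nat.beq r zN
    | none => false

theorem okTailSq_true : okTailSq = true := by decide +kernel

theorem not_square {w : fourRu} (hw : w ∈ gammaThree) : w * w ≠ val zN := by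
  intro he
  have h6 := gammaThree_le hw
  obtain ⟨v, hv, rfl⟩ := exists_val (tailSubgroup_mono yEl (Nat.zero_le 6) h6)
  have h0 := mod_eq_zero_of_val_mem (by norm_num) h6
  have hj := List.all_eq_true.1 okTailSq_true (v / 64) (List.mem_range.2 (by omega))
  rw [show 64 * (v / 64) = v by omega] at hj
  split at hj
  · rename_i r hr
    obtain ⟨hr1, hr2⟩ := mulO_sound hv hr
    have : r = zN := val_injective hr1 (by norm_num [zN]) (by rw [hr2, he])
    subst this
    simp at hj
  · exact absurd hj (by simp)

theorem zN_eq : val zN = iAut ^ 2 := by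
  rw [iAut_sq, val, show bitsK 15 zN = [10, 11] by decide +kernel]

end CfsgLib.StdDoubleRu
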