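import Cfsg.Agent.StdDoubleRu.Criterion
import Cfsg.Agent.StdDoubleRu.Sylow
import Cfsg.Agent.Ru.Out
import Cfsg.Agent.SchurTheory.CoverUnique
import Cfsg.Prelude.Def_CaseTheorems

/-!
A double cover of `Ru` which is a standard subgroup with cyclic Sylow `2`-subgroups of the
centraliser is normal: the transfer of the facts on the concrete double cover to the criterion.
-/

set_option autoImplicit false
set_option linter.style.haveILetI false
set_option Elab.async false

namespace CfsgLib.StdDoubleRu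

open Cfsg Cfsg.Spor CfsgLib.Ru
open CfsgLib.Schur.Pc (ev tailSubgroup gen_mem_tailSubgroup)
open scoped commutatorElement

universe u

/-! ### The concrete double cover -/

theorem root_comm_check : ∀ a < 15, (mulO 16384 (2 ^ a)).isSome = true ∧
    mulO 16384 (2 ^ a) = mulO (2 ^ a) 16384 ∧ (mulO 19456 (2 ^ a)).isSome = true ∧
    mulO 19456 (2 ^ a) = mulO (2 ^ a) 19456 := by
  decide +kernel

theorem root_central {v : ℕ} (h : isRoot v = true) : ∀ g ∈ P2, g * val v = val v * g := by
  have hgen : ∀ a < 15, yEl a * val v = val v * yEl a := by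
    intro a ha
    have key : v < 2 ^ 15 ∧ ∃ r, mulO v (2 ^ a) = some r ∧ mulO (2 ^ a) v = some r := by
      simp only [isRoot, Bool.or_eq_true, beq_iff_eq] at h
      obtain ⟨h1, h2, h3, h4⟩ := root_comm_check a ha
      rcases h with rfl | rfl
      · obtain ⟨r, hr⟩ := Option.isSome_iff_exists.1 h1
        exact ⟨by norm_num, r, hr, h2 ▸ hr⟩
      · obtain ⟨r, hr⟩ := Option.isSome_iff_exists.1 h3
        exact ⟨by norm_num, r, hr, h4 ▸ hr⟩
    obtain ⟨hv, r, h1, h2⟩ := key
    have ha2 : 2 ^ a < 2 ^ 15 := Nat.pow_lt_pow_right (by norm_num) ha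
    rw [← val_two_pow ha, ← (mulO_sound hv h1).2, ← (mulO_sound ha2 h2).2]
  have hle : P2 ≤ Subgroup.centralizer ({val v} : Set fourRu) := by
    rw [P2, tailSubgroup, Subgroup.closure_le]
    rintro _ ⟨a, ⟨-, ha⟩, rfl⟩
    exact Subgroup.mem_centralizer_singleton_iff.2 (hgen a ha)
  exact fun g hg => Subgroup.mem_centralizer_singleton_iff.1 (hle hg)

/-- The Sylow subgroup inside the double cover. -/
noncomputable def P2' : Subgroup twoRu := P2.subgroupOf twoRu

theorem map_P2' : P2'.map twoRu.subtype = P2 :=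
  Subgroup.map_subgroupOf_eq_of_le P2_le_twoRu

theorem card_P2' : Nat.card P2' = 2 ^ 15 := by
  rw [← card_P2, ← map_P2', Subgroup.card_map_of_injective twoRu.subtype_injective]

theorem index_P2' : ¬ 2 ∣ P2'.index := by
  have h := P2'.index_mul_card
  rw [card_P2', card_twoRu] at h
  omega

/-- The central involution of the double cover. -/
noncomputable def zeta : twoRu := ⟨iAut ^ 2, iAut_sq_mem_twoRu⟩

theorem zeta_val : (zeta : fourRu) = val zN := zN_eq.symm

theorem zeta_mem_center : zeta ∈ Subgroup.center twoRu :=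
  Subgroup.mem_center_iff.2 fun g =>
    Subtype.ext (Subgroup.mem_center_iff.1 (Subgroup.pow_mem _ iAut_center 2) g)

theorem zeta_mem_ker : zeta ∈ (tau.comp twoRu.subtype).ker := by
  show tau (iAut ^ 2) = 1
  rw [← MonoidHom.mem_ker, tau_ker]
  exact Subgroup.pow_mem _ iAut_center _

theorem orderOf_zeta : orderOf zeta = 2 := by
  haveI : Fact (Nat.Prime 2) := ⟨Nat.prime_two⟩
  refine orderOf_eq_prime (Subtype.ext ?_) fun e => ?_
  · show (iAut ^ 2) ^ 2 = 1
    have h := pow_orderOf_eq_one iAut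
    rwa [orderOf_iAut, show 4 = 2 * 2 from rfl, pow_mul] at h
  · have h := orderOf_dvd_of_pow_eq_one (congrArg Subtype.val e : iAut ^ 2 = 1)
    rw [orderOf_iAut] at h
    norm_num at h

theorem card_ker_tau : Nat.card (tau.comp twoRu.subtype).ker = 2 := by
  have hi : (tau.comp twoRu.subtype).ker.index = 145926144000 := by
    rw [Subgroup.index_ker, MonoidHom.range_eq_top.2 stem_tau.1, Subgroup.card_top]
    exact card_Ru
  have h := Subgroup.index_mul_card (tau.comp twoRu.subtype).ker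
  rw [hi, card_twoRu] at h
  exact Nat.eq_of_mul_eq_mul_left (by norm_num : 0 < 145926144000) (h.trans (by norm_num))

/-- An involution of the double cover is conjugate into the Sylow subgroup as a central element. -/
theorem exists_central_conj {x : twoRu} (hx : x * x = 1) (hx1 : x ≠ 1) (hxz : x ≠ zeta) :
    ∃ n : twoRu, n * x * n⁻¹ ∈ P2' ∧ ∀ p ∈ P2', p * (n * x * n⁻¹) = n * x * n⁻¹ * p := by
  haveI : Fact (Nat.Prime 2) := ⟨Nat.prime_two⟩
  let P : Sylow 2 twoRu := (IsPGroup.of_card card_P2').toSylow index_P2'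
  obtain ⟨Q, hQ⟩ := (isPGroup_zpowers (d := x) (k := 1) (by rw [pow_one, sq, hx])).exists_le_sylow
  obtain ⟨n, hn⟩ := MulAction.exists_smul_eq twoRu Q P
  have hmem : n * x * n⁻¹ ∈ P2' := by
    show n * x * n⁻¹ ∈ (P : Subgroup twoRu)
    rw [← hn]
    exact Subgroup.smul_mem_pointwise_smul x (MulAut.conj n) _ (hQ (Subgroup.mem_zpowers x))
  obtain ⟨v, hv, hvx⟩ := exists_val (g := ((n * x * n⁻¹ : twoRu) : fourRu)) hmem
  have hsq : val v * val v = 1 := by
    rw [hvx]
    exact congrArg Subtype.val (show n * x * n⁻¹ * (n * x * n⁻¹) = 1 by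
      rw [conj_sq_eq, hx, mul_one, mul_inv_cancel])
  have hv0 : v ≠ 0 := by
    rintro rfl
    rw [val_zero] at hvx
    exact hx1 (conj_eq_one_iff.1 (Subtype.ext hvx.symm))
  have hvz : v ≠ zN := by
    rintro rfl
    rw [← zeta_val] at hvx
    refine hxz ?_
    have e : zeta = n * x * n⁻¹ := Subtype.ext hvx
    have hc := Subgroup.mem_center_iff.1 zeta_mem_center n
    calc x = n⁻¹ * (n * x * n⁻¹) * n := by group
      _ = n⁻¹ * (zeta * n) := by rw [← e, mul_assoc]
      _ = zeta := by rw [← hc, inv_mul_cancel_left]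
  obtain ⟨g, hg, w, hw, hgw⟩ := toRoot_of_sq hv hsq hv0 hvz
  have e : ((⟨g, hg⟩ * n * x * (⟨g, hg⟩ * n)⁻¹ : twoRu) : fourRu) = val w := by
    rw [← hgw, hvx]
    simp only [Subgroup.coe_mul, Subgroup.coe_inv]
    group
  refine ⟨⟨g, hg⟩ * n, ?_, fun p hp => Subtype.ext ?_⟩
  · rw [P2', Subgroup.mem_subgroupOf, e]; exact val_mem_P2 w
  · show (p : fourRu) * ((⟨g, hg⟩ * n * x * (⟨g, hg⟩ * n)⁻¹ : twoRu) : fourRu) =
      ((⟨g, hg⟩ * n * x * (⟨g, hg⟩ * n)⁻¹ : twoRu) : fourRu) * p
    rw [e]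
    exact root_central hw _ hp

/-- A central involution of the Sylow subgroup other than `zeta` is a square of an element of the
third term of its lower central series. -/
theorem exists_square {x : twoRu} (hx : x ∈ P2') (hc : ∀ p ∈ P2', p * x = x * p) (hx2 : x * x = 1)
    (hx1 : x ≠ 1) (hxz : x ≠ zeta) : ∃ w ∈ ⁅⁅P2', P2'⁆, P2'⁆, w * w = x := by
  obtain ⟨v, hv, hvx⟩ := exists_val (g := (x : fourRu)) hx
  have hsq : val v * val v = 1 := by rw [hvx]; exact congrArg Subtype.val hx2
  have hcen : ∀ g ∈ P2, g * val v = val v * g := by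
    intro g hg
    rw [hvx]
    exact congrArg Subtype.val (hc ⟨g, P2_le_twoRu hg⟩ hg)
  rcases central_cases hv hsq hcen with rfl | rfl | hr
  · rw [val_zero] at hvx; exact absurd (Subtype.ext hvx.symm) hx1
  · rw [← zeta_val] at hvx; exact absurd (Subtype.ext hvx.symm) hxz
  obtain ⟨w, hw, hww⟩ := root_square hr
  have hw' : w ∈ (⁅⁅P2', P2'⁆, P2'⁆).map twoRu.subtype := by
    rwa [Subgroup.map_commutator, Subgroup.map_commutator, map_P2']
  obtain ⟨q, hq, rfl⟩ := hw'
  exact ⟨q, hq, Subtype.ext (hww.trans hvx)⟩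

theorem sq_ne_zeta {w : twoRu} (hw : w ∈ ⁅⁅P2', P2'⁆, P2'⁆) : w * w ≠ zeta := by
  intro e
  refine not_square (w := (w : fourRu)) ?_ (by rw [← zeta_val, ← e]; rfl)
  have h : (w : fourRu) ∈ (⁅⁅P2', P2'⁆, P2'⁆).map twoRu.subtype := ⟨w, hw, rfl⟩
  rwa [Subgroup.map_commutator, Subgroup.map_commutator, map_P2'] at h

/-! ### An abstract double cover -/

variable {G : Type u} [Group G]

/-- An automorphism inducing the identity modulo the centre of a perfect group is trivial. -/
theorem eq_refl_of_central {H : Type*} [Group H] (hH : Group.IsPerfect H) (ψ : H ≃* H)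
    (h : ∀ b, b⁻¹ * ψ b ∈ Subgroup.center H) (b : H) : ψ b = b := by
  have hd : ∀ a b : H, (a * b)⁻¹ * ψ (a * b) = a⁻¹ * ψ a * (b⁻¹ * ψ b) := by
    intro a b
    have hc := Subgroup.mem_center_iff.1 (h a) b⁻¹
    calc (a * b)⁻¹ * ψ (a * b) = b⁻¹ * (a⁻¹ * ψ a) * ψ b := by rw [map_mul]; group
      _ = a⁻¹ * ψ a * b⁻¹ * ψ b := by rw [hc]
      _ = _ := by group
  let d : H →* Subgroup.center H :=
    MonoidHom.mk' (fun b => ⟨b⁻¹ * ψ b, h b⟩) fun a b => Subtype.ext (hd a b)
  have hker : b ∈ d.ker := by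
    have hle : commutator H ≤ d.ker := by
      rw [commutator_def, Subgroup.commutator_le]
      intro x _ y _
      rw [MonoidHom.mem_ker, map_commutatorElement, commutatorElement_eq_one_iff_mul_comm]
      exact Subtype.ext (Subgroup.mem_center_iff.1 (d y).2 (d x))
    exact hle (by rw [Group.isPerfect_def.mp hH]; exact Subgroup.mem_top b)
  exact (inv_mul_eq_one.1 (congrArg Subtype.val hker : b⁻¹ * ψ b = 1)).symm

/-- Automorphisms of a perfect central extension of `Ru` are inner. -/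
theorem inner_of_quotient {H : Type*} [Group H] (hH : Group.IsPerfect H)
    (e : H ⧸ Subgroup.center H ≃* Ru) (φ : H ≃* H) : ∃ a, ∀ b, φ b = a * b * a⁻¹ := by
  let q : H ⧸ Subgroup.center H ≃* H ⧸ Subgroup.center H :=
    QuotientGroup.congr _ _ φ (Subgroup.characteristic_iff_map_eq.1 inferInstance φ)
  have hsub : Subsingleton (Cfsg.Out Ru) :=
    (Nat.card_eq_one_iff_unique.1 card_out_Ru).1
  have hinn : (e.symm.trans (q.trans e) : MulAut Ru) ∈ Cfsg.Inn Ru :=
    (QuotientGroup.eq_one_iff _).1 (Subsingleton.elim _ _)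
  obtain ⟨r, hr⟩ := hinn
  obtain ⟨a, ha⟩ := QuotientGroup.mk'_surjective (Subgroup.center H) (e.symm r)
  have hq : ∀ b : H, (QuotientGroup.mk (φ b) : H ⧸ Subgroup.center H) =
      QuotientGroup.mk (a * b * a⁻¹) := by
    intro b
    have h1 : r * e (QuotientGroup.mk b) * r⁻¹ = e (q (e.symm (e (QuotientGroup.mk b)))) :=
      DFunLike.congr_fun hr (e (QuotientGroup.mk b))
    rw [e.symm_apply_apply] at h1
    apply e.injective
    show e (q (QuotientGroup.mk b)) = _
    rw [← h1, QuotientGroup.mk_mul, QuotientGroup.mk_mul, QuotientGroup.mk_inv, map_mul, map_mul,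
      map_inv, show (QuotientGroup.mk a : H ⧸ Subgroup.center H) = e.symm r from ha,
      e.apply_symm_apply]
  refine ⟨a, fun b => ?_⟩
  have h := eq_refl_of_central hH (φ.trans (MulAut.conj a).symm) (fun c => ?_) b
  · simp only [MulEquiv.trans_apply, MulEquiv.symm_apply_eq, MulAut.conj_apply] at h
    exact h
  · rw [← QuotientGroup.eq]
    simp only [MulEquiv.trans_apply, MulAut.conj_symm_apply, QuotientGroup.mk_mul,
      QuotientGroup.mk_inv, hq]
    group

/-- An element of the normaliser fixes the subgroup. -/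
theorem map_conj_eq {A : Subgroup G} {g : G} (hg : g ∈ Subgroup.normalizer (A : Set G)) :
    A.map (MulAut.conj g).toMonoidHom = A := by
  ext y
  simp only [Subgroup.mem_map, MulEquiv.coe_toMonoidHom, MulAut.conj_apply]
  constructor
  · rintro ⟨t, ht, rfl⟩
    exact (Subgroup.mem_normalizer_iff.1 hg t).1 ht
  · intro hy
    exact ⟨g⁻¹ * y * g, (Subgroup.mem_normalizer_iff.1 hg _).2 (by simpa [mul_assoc] using hy),
      by group⟩

variable [Finite G]

/-- Such a standard subgroup is normal. -/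
theorem normal_of_standard (hO : Cfsg.oddCore G = ⊥) (A : Subgroup G) (hA : IsStandardSubgroup A)
    (hZ : Nat.card ↥(Subgroup.center ↥A) = 2) (hAX : IsoRu (↥A ⧸ Subgroup.center ↥A))
    (hR : ∀ R : Sylow 2 ↥(Subgroup.centralizer (A : Set G)),
      IsCyclic ↥(R : Subgroup ↥(Subgroup.centralizer (A : Set G)))) : A.Normal := by
  haveI : Fact (Nat.Prime 2) := ⟨Nat.prime_two⟩
  obtain ⟨eQ⟩ := hAX
  have hperf : Group.IsPerfect A := hA.1.1
  let σ : A →* Ru := eQ.toMonoidHom.comp (QuotientGroup.mk' (Subgroup.center A))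
  have hker : σ.ker = Subgroup.center A := by
    ext a; simp [σ]
  have hσ : Cfsg.IsStemExtension σ :=
    ⟨eQ.surjective.comp (QuotientGroup.mk'_surjective _), hker.le,
      fun a _ => by rw [Group.isPerfect_def.mp hperf]; exact Subgroup.mem_top a⟩
  haveI : Finite Ru := Finite.of_surjective σ hσ.1
  obtain ⟨hcyc, hmult⟩ := SchurTheory.hasCyclicSchurMultiplier_iff.1 multiplier_Ru
  haveI := hcyc
  haveI : IsCyclic σ.ker := isCyclic_of_prime_card (p := 2) (by rw [hker, hZ])
  haveI : IsCyclic (tau.comp twoRu.subtype).ker := isCyclic_of_prime_card card_ker_tau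
  obtain ⟨e, he⟩ := SchurTheory.exists_iso_of_coprime
    (by
      haveI : Subsingleton (Abelianization Ru) := QuotientGroup.subsingleton_iff.2
        (Group.isPerfect_def.mp Ru_perfect)
      rw [Nat.card_of_subsingleton (1 : Abelianization Ru)]
      exact Nat.coprime_one_left _)
    σ (tau.comp twoRu.subtype) hσ stem_tau
    (mulEquivOfCyclicCardEq (by rw [hker, hZ, hmult]))
    (mulEquivOfCyclicCardEq (by rw [card_ker_tau, hmult]))
  let j : twoRu →* G := A.subtype.comp e.symm.toMonoidHom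
  have hj : Function.Injective j := A.subtype_injective.comp e.symm.injective
  have hrange : ∀ a ∈ A, ∃ x, j x = a := fun a ha =>
    ⟨e ⟨a, ha⟩, by simp [j]⟩
  have hjA : ∀ x, j x ∈ A := fun x => (e.symm x).2
  have hjinv : ∀ {x y : twoRu}, j x * j y = j y * j x → x * y = y * x := fun h =>
    hj (by rw [map_mul, map_mul, h])
  have hgam : ⁅⁅P2'.map j, P2'.map j⁆, P2'.map j⁆ = (⁅⁅P2', P2'⁆, P2'⁆).map j := by
    rw [Subgroup.map_commutator, Subgroup.map_commutator]
  refine normal_of_squares hO hA hR (j zeta) (hjA _) ?_ ?_ ?_ (P2'.map j) ?_ ?_ ?_ ?_ ?_ ?_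
  · rw [orderOf_injective j hj, orderOf_zeta]
  · intro a ha
    obtain ⟨x, rfl⟩ := hrange a ha
    rw [← map_mul, ← map_mul, Subgroup.mem_center_iff.1 zeta_mem_center x]
  · intro g hg
    let φ : A ≃* A := (MulEquiv.subgroupMap (MulAut.conj g) A).trans
      (MulEquiv.subgroupCongr (show A.map (MulAut.conj g).toMonoidHom = A from
        map_conj_eq hg))
    obtain ⟨a, ha⟩ := inner_of_quotient hperf eQ φ
    exact ⟨a, a.2, fun b hb => congrArg Subtype.val (ha ⟨b, hb⟩)⟩
  · rintro _ ⟨x, -, rfl⟩; exact hjA x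
  · exact (IsPGroup.of_card card_P2').map j
  · have hAr : A = (⊤ : Subgroup twoRu).map j :=
      le_antisymm (fun a ha => by obtain ⟨x, rfl⟩ := hrange a ha; exact ⟨x, Subgroup.mem_top _, rfl⟩)
        (by rintro _ ⟨x, -, rfl⟩; exact hjA x)
    rw [hAr, Subgroup.relIndex_map_map_of_injective _ _ hj, Subgroup.relIndex_top_right]
    exact index_P2'
  · rintro _ ⟨x, hx, rfl⟩ hc h2 h1 hne
    obtain ⟨w, hw, hww⟩ := exists_square hx
      (fun p hp => hjinv (hc _ ⟨p, hp, rfl⟩)) (hj (by rw [map_mul, h2, map_one]))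
      (fun e => h1 (by rw [e, map_one])) (fun e => hne (by rw [e]))
    exact ⟨j w, hgam ▸ ⟨w, hw, rfl⟩, by rw [← map_mul, hww]⟩
  · intro a ha h2 h1 hne
    obtain ⟨x, rfl⟩ := hrange a ha
    obtain ⟨n, hn, hnc⟩ := exists_central_conj (hj (by rw [map_mul, h2, map_one] : j (x * x) = j 1))
      (fun e => h1 (by rw [e, map_one])) (fun e => hne (by rw [e]))
    refine ⟨j n, hjA n, ?_, ?_⟩
    · rw [← map_inv, ← map_mul, ← map_mul]; exact ⟨_, hn, rfl⟩
    · rintro _ ⟨p, hp, rfl⟩
      rw [← map_inv, ← map_mul, ← map_mul, ← map_mul, hnc p hp, map_mul]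
  · intro w hw
    rw [hgam] at hw
    obtain ⟨q, hq, rfl⟩ := hw
    rw [← map_mul]
    exact fun e => sq_ne_zeta hq (hj e)

end CfsgLib.StdDoubleRu
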