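import Cfsg.Agent.ZStar.Theorem
import Cfsg.Prelude.Def_Local

/-!
A criterion for a standard subgroup with central involution `z` and cyclic Sylow `2`-subgroups of
the centraliser to be normal: automorphisms are inner, every other involution is conjugate to a
central element of a Sylow `2`-subgroup which is the square of an element of the third term of its
lower central series, and `z` is not such a square.
-/

set_option autoImplicit false
set_option linter.style.haveILetI false

namespace CfsgLib.StdDoubleRu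

open Cfsg
open scoped commutatorElement

universe u

variable {G : Type u} [Group G] [Finite G]

omit [Finite G] in
theorem conj_sq_eq {g w : G} : (g * w * g⁻¹) * (g * w * g⁻¹) = g * (w * w) * g⁻¹ := by group

/-- A cyclic `2`-subgroup has at most one involution. -/
theorem invol_unique {R : Subgroup G} [IsCyclic R] {x y : G} (hx : x ∈ R) (hy : y ∈ R)
    (hx2 : orderOf x = 2) (hy2 : orderOf y = 2) : x = y := by
  classical
  haveI := Fintype.ofFinite R
  have hsub : ({⟨x, hx⟩, ⟨y, hy⟩} : Finset R) ⊆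
      (Finset.univ.filter fun a : R => orderOf a = 2) := by
    intro a ha
    simp only [Finset.mem_insert, Finset.mem_singleton] at ha
    rcases ha with rfl | rfl <;> simp [Subgroup.orderOf_mk, hx2, hy2]
  have hd : 2 ∣ Fintype.card R := by
    rw [← Nat.card_eq_fintype_card, ← hx2, ← Subgroup.orderOf_mk (H := R) x hx]
    exact orderOf_dvd_natCard _
  have h := Finset.card_le_card hsub
  rw [IsCyclic.card_orderOf_eq_totient hd, show Nat.totient 2 = 1 from Nat.totient_two] at h
  by_contra hne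
  rw [Finset.card_pair (fun e => hne (congrArg Subtype.val e))] at h
  omega

/-- An element whose order divides twice an odd number has an odd power which is a `2`-element. -/
theorem exists_two_part (a b : G) : ∃ o, Odd o ∧ (∃ k, (a ^ o) ^ 2 ^ k = 1) ∧
    ∃ k, (b ^ o) ^ 2 ^ k = 1 := by
  obtain ⟨k, o, ho, hk⟩ := Nat.exists_eq_two_pow_mul_odd
    (Nat.mul_ne_zero (orderOf_pos a).ne' (orderOf_pos b).ne')
  refine ⟨o, ho, ⟨k, ?_⟩, ⟨k, ?_⟩⟩ <;>
    rw [← pow_mul, Nat.mul_comm, ← hk] <;>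
    exact orderOf_dvd_iff_pow_eq_one.1 (by first | exact Dvd.intro _ rfl | exact Dvd.intro_left _ rfl)

omit [Finite G] in
theorem isPGroup_zpowers {d : G} {k : ℕ} (h : d ^ 2 ^ k = 1) : IsPGroup 2 (Subgroup.zpowers d) := by
  rintro ⟨_, i, rfl⟩
  refine ⟨k, Subtype.ext ?_⟩
  show (d ^ i) ^ 2 ^ k = 1
  rw [← zpow_natCast, ← zpow_mul, mul_comm, zpow_mul, zpow_natCast, h, one_zpow]

omit [Finite G] in
/-- The order of a product of elementwise commuting subgroups. -/
theorem card_sup_of_commute (H K : Subgroup G) (hcomm : ∀ h ∈ H, ∀ k ∈ K, Commute h k) :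
    Nat.card ↥(H ⊔ K) * Nat.card ↥(H ⊓ K) = Nat.card H * Nat.card K := by
  let f : H × K →* G := H.subtype.noncommCoprod K.subtype fun h k => hcomm h h.2 k k.2
  have hr : f.range = H ⊔ K := by
    refine le_antisymm ?_ (sup_le (fun h hh => ⟨(⟨h, hh⟩, 1), mul_one _⟩)
      fun k hk => ⟨(1, ⟨k, hk⟩), one_mul _⟩)
    rintro _ ⟨⟨h, k⟩, rfl⟩
    exact mul_mem (Subgroup.mem_sup_left h.2) (Subgroup.mem_sup_right k.2)
  let e : f.ker ≃ ↥(H ⊓ K) :=
    { toFun := fun p => ⟨(p.1.1 : G), p.1.1.2, by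
        have h : (p.1.1 : G) * (p.1.2 : G) = 1 := p.2
        rw [eq_inv_of_mul_eq_one_left h]
        exact K.inv_mem p.1.2.2⟩
      invFun := fun u => ⟨(⟨u.1, u.2.1⟩, ⟨u.1⁻¹, K.inv_mem u.2.2⟩),
        show (u.1 : G) * u.1⁻¹ = 1 from mul_inv_cancel _⟩
      left_inv := fun p => by
        have h : (p.1.1 : G) * (p.1.2 : G) = 1 := p.2
        exact Subtype.ext (Prod.ext rfl (Subtype.ext (eq_inv_of_mul_eq_one_right h).symm))
      right_inv := fun u => rfl }
  rw [← hr, ← Nat.card_congr e, ← Subgroup.index_ker, Subgroup.index_mul_card, Nat.card_prod]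

variable {A : Subgroup G}

omit [Finite G] in
/-- The centraliser of the standard subgroup is normalised by the centraliser of its involutions. -/
theorem centralizer_le {t : G} (hA : IsStandardSubgroup A) (ht : orderOf t = 2)
    (htA : t ∈ Subgroup.centralizer (A : Set G)) :
    Subgroup.centralizer ({t} : Set G) ≤ Subgroup.normalizer (A : Set G) := by
  obtain ⟨-, ⟨-, htight⟩, -, hnorm⟩ := hA
  intro c hc
  rw [hnorm]
  by_contra hcn
  have hodd := htight c hcn
  have hct : c * t * c⁻¹ = t := by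
    rw [mul_inv_eq_iff_eq_mul]; exact Subgroup.mem_centralizer_singleton_iff.mp hc
  have hmem : t ∈ Subgroup.centralizer (A : Set G) ⊓
      (Subgroup.centralizer (A : Set G)).map (MulAut.conj c).toMonoidHom :=
    ⟨htA, ⟨t, htA, by simpa using hct⟩⟩
  have h2 := orderOf_dvd_natCard (⟨t, hmem⟩ : ↥(Subgroup.centralizer (A : Set G) ⊓
    (Subgroup.centralizer (A : Set G)).map (MulAut.conj c).toMonoidHom))
  rw [Subgroup.orderOf_mk, ht] at h2
  exact (Nat.not_even_iff_odd.mpr hodd) (even_iff_two_dvd.mpr h2)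

omit [Finite G] in
theorem mul_commute_commutator {s s' c c' : G} (h1 : Commute c s) (h2 : Commute c s')
    (h3 : Commute c c') (h4 : Commute c' s) (h5 : Commute c' s') :
    ⁅s * c, s' * c'⁆ = ⁅s, s'⁆ := by
  have hc : ∀ x, Commute c x → c * x * c⁻¹ = x := fun x h => by rw [h.eq, mul_inv_cancel_right]
  have hc' : ∀ x, Commute c' x → c' * x * c'⁻¹ = x := fun x h => by rw [h.eq, mul_inv_cancel_right]
  simp only [commutatorElement_def, mul_inv_rev]
  calc s * c * (s' * c') * (c⁻¹ * s⁻¹) * (c'⁻¹ * s'⁻¹)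
      = s * (c * (s' * c') * c⁻¹) * s⁻¹ * (c'⁻¹ * s'⁻¹) := by group
    _ = s * (s' * c') * s⁻¹ * (c'⁻¹ * s'⁻¹) := by rw [hc _ (h2.mul_right h3)]
    _ = s * s' * (c' * s⁻¹ * c'⁻¹) * s'⁻¹ := by group
    _ = s * s' * s⁻¹ * s'⁻¹ := by rw [hc' _ h4.inv_right]

/-- The criterion. -/
theorem normal_of_squares (hO : Cfsg.oddCore G = ⊥) (hA : IsStandardSubgroup A)
    (hR : ∀ R : Sylow 2 ↥(Subgroup.centralizer (A : Set G)),
      IsCyclic ↥(R : Subgroup ↥(Subgroup.centralizer (A : Set G))))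
    (z : G) (hzA : z ∈ A) (hz : orderOf z = 2) (hzc : ∀ a ∈ A, a * z = z * a)
    (hinner : ∀ g ∈ Subgroup.normalizer (A : Set G),
      ∃ a ∈ A, ∀ b ∈ A, g * b * g⁻¹ = a * b * a⁻¹)
    (S : Subgroup G) (hSA : S ≤ A) (hS2 : IsPGroup 2 S) (hSodd : ¬ 2 ∣ S.relIndex A)
    (hcen : ∀ a ∈ S, (∀ s ∈ S, s * a = a * s) → a * a = 1 → a ≠ 1 → a ≠ z →
      ∃ w ∈ ⁅⁅S, S⁆, S⁆, w * w = a)
    (hinv : ∀ a ∈ A, a * a = 1 → a ≠ 1 → a ≠ z →
      ∃ b ∈ A, b * a * b⁻¹ ∈ S ∧ ∀ s ∈ S, s * (b * a * b⁻¹) = b * a * b⁻¹ * s)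
    (hsq : ∀ w ∈ ⁅⁅S, S⁆, S⁆, w * w ≠ z) : A.Normal := by
  classical
  haveI : Fact (Nat.Prime 2) := ⟨Nat.prime_two⟩
  set C := Subgroup.centralizer (A : Set G) with hC
  have memC : ∀ {c : G}, c ∈ C → ∀ a ∈ A, a * c = c * a := fun hc a ha =>
    Subgroup.mem_centralizer_iff.1 hc a ha
  have hz1 : z ≠ 1 := fun e => by rw [e, orderOf_one] at hz; omega
  have hz2 : z * z = 1 := by rw [← sq, ← hz, pow_orderOf_eq_one]
  have hzC : z ∈ C := Subgroup.mem_centralizer_iff.2 fun a ha => hzc a ha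
  -- the normaliser is the centraliser of `z`
  have hzfix : ∀ g ∈ Subgroup.normalizer (A : Set G), g * z = z * g := by
    intro g hg
    obtain ⟨a, ha, h⟩ := hinner g hg
    have h1 := h z hzA
    rw [hzc a ha, mul_inv_cancel_right] at h1
    exact mul_inv_eq_iff_eq_mul.1 h1
  have hCle : Subgroup.centralizer ({z} : Set G) ≤ Subgroup.normalizer (A : Set G) :=
    centralizer_le hA hz hzC
  have hdec : ∀ g : G, g * z = z * g → ∃ a ∈ A, ∃ c ∈ C, g = a * c := by
    intro g hg
    obtain ⟨a, ha, h⟩ := hinner g (hCle (Subgroup.mem_centralizer_singleton_iff.2 hg))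
    refine ⟨a, ha, a⁻¹ * g, Subgroup.mem_centralizer_iff.2 fun b hb => ?_, by group⟩
    have := h b hb
    rw [mul_inv_eq_iff_eq_mul] at this
    calc b * (a⁻¹ * g) = a⁻¹ * (a * b * a⁻¹ * g) := by group
      _ = a⁻¹ * g * b := by rw [← this]; group
  -- a Sylow subgroup of the centraliser and its generator
  obtain ⟨R₀⟩ : Nonempty (Sylow 2 C) := inferInstance
  set R : Subgroup G := (R₀ : Subgroup C).map C.subtype with hRdef
  have hRC : R ≤ C := Subgroup.map_subtype_le _
  haveI : IsCyclic (R₀ : Subgroup C) := hR R₀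
  haveI hRcyc : IsCyclic R := isCyclic_of_surjective
    ((R₀ : Subgroup C).equivMapOfInjective C.subtype C.subtype_injective).toMonoidHom
    ((R₀ : Subgroup C).equivMapOfInjective C.subtype C.subtype_injective).surjective
  -- `z` is central in the centraliser, so lies in every Sylow subgroup
  have hzR : ∀ Q : Sylow 2 C, (⟨z, hzC⟩ : C) ∈ (Q : Subgroup C) := by
    intro Q
    set zC : C := ⟨z, hzC⟩
    have hn : (Subgroup.zpowers zC).Normal := by
      refine ⟨?_⟩
      rintro _ ⟨i, rfl⟩ c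
      refine ⟨i, ?_⟩
      have hcz : Commute c zC := Subtype.ext (memC c.2 z hzA).symm
      rw [(hcz.zpow_right i).eq, mul_inv_cancel_right]
    haveI := hn
    have hzC2 : zC ^ 2 ^ 1 = 1 := Subtype.ext (by simp [zC, sq, hz2])
    exact (IsPGroup.le_sylow_of_normal (isPGroup_zpowers hzC2) Q) (Subgroup.mem_zpowers _)
  have hzRG : z ∈ R := ⟨_, hzR R₀, rfl⟩
  obtain ⟨r, hr⟩ : ∃ r, Nat.card R = 2 ^ (r + 1) := by
    obtain ⟨n, hn⟩ := R₀.2.exists_card_eq
    have hcard : Nat.card R = 2 ^ n := by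
      rw [hRdef, Subgroup.card_map_of_injective C.subtype_injective, hn]
    have h2 : 2 ∣ Nat.card R := by
      rw [← hz, ← Subgroup.orderOf_mk (H := R) z hzRG]; exact orderOf_dvd_natCard _
    rcases n with _ | n
    · rw [hcard, pow_zero] at h2; omega
    · exact ⟨n, hcard⟩
  -- the powers `2 ^ r` of the `2`-elements of the centraliser lie in `⟨z⟩`
  have hpow : ∀ d ∈ C, (∃ k, d ^ 2 ^ k = 1) → d ^ 2 ^ r = 1 ∨ d ^ 2 ^ r = z := by
    rintro d hd ⟨k, hk⟩
    obtain ⟨Q, hQ⟩ := (isPGroup_zpowers (d := (⟨d, hd⟩ : C)) (k := k)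
      (Subtype.ext hk)).exists_le_sylow
    haveI : IsCyclic (Q : Subgroup C) := hR Q
    have hcard : Nat.card (Q : Subgroup C) = 2 ^ (r + 1) := by
      rw [Nat.card_congr (Q.equiv R₀).toEquiv, ← hr, hRdef,
        Subgroup.card_map_of_injective C.subtype_injective]
    have hdQ : (⟨d, hd⟩ : C) ∈ (Q : Subgroup C) := hQ (Subgroup.mem_zpowers _)
    have h1 := pow_card_eq_one' (x := (⟨_, hdQ⟩ : (Q : Subgroup C)))
    rw [hcard] at h1
    have h2 : (d ^ 2 ^ r) * (d ^ 2 ^ r) = 1 := by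
      rw [← pow_add, ← two_mul, ← pow_succ']
      exact congrArg (fun q : (Q : Subgroup C) => ((q : C) : G)) h1
    by_cases hone : d ^ 2 ^ r = 1
    · exact Or.inl hone
    · refine Or.inr ?_
      set e : C := ⟨d, hd⟩ ^ 2 ^ r
      have he : e ∈ (Q : Subgroup C) := pow_mem hdQ _
      have e2 : orderOf e = 2 :=
        orderOf_eq_prime (Subtype.ext (by simpa [e, sq] using h2))
          (fun h => hone (congrArg Subtype.val h))
      have hz2' : orderOf (⟨z, hzC⟩ : C) = 2 := by rw [Subgroup.orderOf_mk, hz]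
      exact congrArg Subtype.val (invol_unique he (hzR Q) e2 hz2')
  -- conjugates of `z` commuting with `z` lie in `A`
  have hconjA : ∀ g : G, (g * z * g⁻¹) * z = z * (g * z * g⁻¹) → g * z * g⁻¹ ∈ A := by
    intro g hxz
    set x := g * z * g⁻¹ with hx
    have hu : (g⁻¹ * z * g) * z = z * (g⁻¹ * z * g) := by
      calc (g⁻¹ * z * g) * z = g⁻¹ * (z * x) * g := by rw [hx]; group
        _ = g⁻¹ * (x * z) * g := by rw [hxz]
        _ = z * (g⁻¹ * z * g) := by rw [hx]; group
    obtain ⟨a', ha', c', hc', he⟩ := hdec _ hu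
    obtain ⟨o, hodd, ⟨k, hk⟩, -⟩ := exists_two_part c' 1
    have hu2 : (g⁻¹ * z * g) ^ o = g⁻¹ * z * g := by
      obtain ⟨j, rfl⟩ := hodd
      rw [pow_succ, pow_mul, sq,
        show g⁻¹ * z * g * (g⁻¹ * z * g) = g⁻¹ * (z * z) * g by group, hz2]
      group
    rw [he, (Commute.mul_pow (show Commute a' c' from memC hc' a' ha') o)] at hu2
    obtain ⟨Q, hQ⟩ := (isPGroup_zpowers (d := (⟨c' ^ o, pow_mem hc' o⟩ : C)) (k := k)
      (Subtype.ext hk)).exists_le_sylow
    haveI : IsCyclic (Q : Subgroup C) := hR Q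
    obtain ⟨w, hw⟩ := IsCyclic.exists_generator (α := (Q : Subgroup C))
    have how : orderOf ((w : C) : G) = 2 ^ (r + 1) := by
      rw [← hr, hRdef, Subgroup.card_map_of_injective C.subtype_injective,
        ← Nat.card_congr (Q.equiv R₀).toEquiv, Subgroup.orderOf_coe, Subgroup.orderOf_coe]
      exact orderOf_eq_card_of_forall_mem_zpowers hw
    have hwC : ((w : C) : G) ∈ C := (w : C).2
    have hwz : ((w : C) : G) ^ 2 ^ r = z := by
      rcases hpow _ hwC ⟨r + 1, by rw [← how, pow_orderOf_eq_one]⟩ with h | h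
      · have h' := orderOf_dvd_of_pow_eq_one h
        rw [how, Nat.pow_dvd_pow_iff_le_right (le_refl 2)] at h'
        omega
      · exact h
    -- the generator commutes with both factors
    have hwc : Commute ((w : C) : G) (c' ^ o) := by
      obtain ⟨i, hi⟩ := hw ⟨⟨c' ^ o, pow_mem hc' o⟩, hQ (Subgroup.mem_zpowers _)⟩
      have e := congrArg (fun q : (Q : Subgroup C) => ((q : C) : G)) hi
      simp only [SubgroupClass.coe_zpow] at e
      rw [← e]
      exact (Commute.refl _).zpow_right i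
    have hwu : Commute ((w : C) : G) (g⁻¹ * z * g) := by
      rw [he, ← hu2]
      exact (show Commute ((w : C) : G) (a' ^ o) from (memC hwC _ (pow_mem ha' o)).symm).mul_right hwc
    set v := g * ((w : C) : G) * g⁻¹ with hv
    have hvz : v * z = z * v := by
      calc v * z = g * (((w : C) : G) * (g⁻¹ * z * g)) * g⁻¹ := by rw [hv]; group
        _ = g * ((g⁻¹ * z * g) * ((w : C) : G)) * g⁻¹ := by rw [hwu.eq]
        _ = z * v := by rw [hv]; group
    have hvx : v ^ 2 ^ r = x := by rw [hv, conj_pow, hwz]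
    have hv1 : v ^ 2 ^ (r + 1) = 1 := by
      rw [hv, conj_pow, ← how, pow_orderOf_eq_one, mul_one, mul_inv_cancel]
    obtain ⟨a, ha, d, hd, had⟩ := hdec v hvz
    obtain ⟨o', hodd', -, hd'⟩ := exists_two_part a d
    have hcomm : Commute (a ^ o') (d ^ o') :=
      (show Commute a d from memC hd a ha).pow_pow o' o'
    have hx' : x = (a ^ o') ^ 2 ^ r * (d ^ o') ^ 2 ^ r := by
      rw [← hcomm.mul_pow, ← (show Commute a d from memC hd a ha).mul_pow, ← had, ← pow_mul,
        Nat.mul_comm, pow_mul, hvx]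
      obtain ⟨j, rfl⟩ := hodd'
      have hx2 : x * x = 1 := by rw [hx, conj_sq_eq, hz2, mul_one, mul_inv_cancel]
      rw [pow_succ, pow_mul, sq, hx2, one_pow, one_mul]
    rw [hx']
    refine mul_mem (pow_mem (pow_mem ha _) _) ?_
    rcases hpow _ (pow_mem hd o') hd' with h | h <;> rw [h]
    · exact one_mem _
    · exact hzA
  -- a Sylow subgroup of the centraliser of `z`
  have hSR : ∀ s ∈ S, ∀ c ∈ R, Commute c s := fun s hs c hc => (memC (hRC hc) s (hSA hs)).symm
  have hRR : ∀ c ∈ R, ∀ c' ∈ R, Commute c c' := fun c hc c' hc' =>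
    congrArg Subtype.val ((IsCyclic.isMulCommutative (α := R)).is_comm.comm ⟨c, hc⟩ ⟨c', hc'⟩)
  set T : Subgroup G := S ⊔ R with hT
  have hRnS : R ≤ Subgroup.normalizer (S : Set G) := by
    intro c hc
    rw [Subgroup.mem_normalizer_iff]
    intro s
    constructor
    · intro hs; rwa [(hSR s hs c hc).eq, mul_inv_cancel_right]
    · intro hs
      have h := hSR _ hs c hc
      have e : c * s * c⁻¹ = s := by
        calc c * s * c⁻¹ = c⁻¹ * (c * (c * s * c⁻¹)) := by group
          _ = c⁻¹ * ((c * s * c⁻¹) * c) := by rw [h.eq]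
          _ = s := by group
      rwa [e] at hs
  have hTdec : ∀ t ∈ T, ∃ s ∈ S, ∃ c ∈ R, t = s * c := by
    intro t ht
    have ht' : t ∈ ((S ⊔ R : Subgroup G) : Set G) := ht
    rw [Subgroup.coe_mul_of_right_le_normalizer_left _ _ hRnS] at ht'
    obtain ⟨s, hs, c, hc, rfl⟩ := ht'
    exact ⟨s, hs, c, hc, rfl⟩
  have hT2 : IsPGroup 2 T := by
    rintro ⟨t, ht⟩
    obtain ⟨s, hs, c, hc, rfl⟩ := hTdec t ht
    obtain ⟨k, hk⟩ := hS2 ⟨s, hs⟩
    have hcR : c ^ 2 ^ (r + 1) = 1 := by
      have := pow_card_eq_one' (x := (⟨c, hc⟩ : R))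
      rw [hr] at this
      exact congrArg Subtype.val this
    refine ⟨k + (r + 1), Subtype.ext ?_⟩
    show (s * c) ^ 2 ^ (k + (r + 1)) = 1
    have hk' : s ^ 2 ^ k = 1 := congrArg Subtype.val hk
    rw [((hSR s hs c hc).symm).mul_pow, pow_add, pow_mul, hk', one_pow, one_mul, Nat.mul_comm,
      pow_mul, hcR, one_pow]
  have hTGamma : ⁅⁅T, T⁆, T⁆ = ⁅⁅S, S⁆, S⁆ := by
    have h1 : ⁅T, T⁆ = ⁅S, S⁆ := by
      refine le_antisymm (Subgroup.commutator_le.2 fun t ht t' ht' => ?_)
        (Subgroup.commutator_mono le_sup_left le_sup_left)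
      obtain ⟨s, hs, c, hc, rfl⟩ := hTdec t ht
      obtain ⟨s', hs', c', hc', rfl⟩ := hTdec t' ht'
      rw [mul_commute_commutator (hSR s hs c hc) (hSR s' hs' c hc) (hRR c hc c' hc')
        (hSR s hs c' hc') (hSR s' hs' c' hc')]
      exact Subgroup.commutator_mem_commutator hs hs'
    rw [h1]
    refine le_antisymm (Subgroup.commutator_le.2 fun u hu t ht => ?_)
      (Subgroup.commutator_mono le_rfl le_sup_left)
    obtain ⟨s, hs, c, hc, rfl⟩ := hTdec t ht
    have huS : u ∈ S := by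
      have : ⁅S, S⁆ ≤ S := Subgroup.commutator_le.2 fun a ha b hb =>
        S.mul_mem (S.mul_mem (S.mul_mem ha hb) (S.inv_mem ha)) (S.inv_mem hb)
      exact this hu
    have e := mul_commute_commutator (s := u) (s' := s) (c := 1) (c' := c) (Commute.one_left _)
      (Commute.one_left _) (Commute.one_left _) (hSR u huS c hc) (hSR s hs c hc)
    rw [mul_one] at e
    rw [e]
    exact Subgroup.commutator_mem_commutator hu hs
  -- `T` has odd index in the centraliser of `z`
  set N := Subgroup.centralizer ({z} : Set G) with hN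
  have memN : ∀ {g : G}, g ∈ N ↔ g * z = z * g := Subgroup.mem_centralizer_singleton_iff
  have hzcentC : ∀ c ∈ C, c * z = z * c := fun c hc => (memC hc z hzA).symm
  have hTN : T ≤ N := sup_le (fun s hs => memN.2 (hzc s (hSA hs)))
    (fun c hc => memN.2 (hzcentC c (hRC hc)))
  obtain ⟨P, hTP⟩ := hT2.exists_le_sylow
  have hPN : ∀ g ∈ P, g * z = z * g → g ∈ T := by
    intro g hgP hgz
    by_contra hgT
    -- a `2`-subgroup of the centraliser of `z` strictly containing `T` is too large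
    set U : Subgroup G := (P : Subgroup G) ⊓ N
    have hTU : T ≤ U := le_inf hTP hTN
    have hlt : Nat.card T < Nat.card U := by
      by_contra h
      exact hgT ((Subgroup.eq_of_le_of_card_ge hTU (not_lt.1 h)) ▸ ⟨hgP, memN.2 hgz⟩)
    obtain ⟨m, hm⟩ := (P.2.to_le (inf_le_left : U ≤ (P : Subgroup G))).exists_card_eq
    obtain ⟨n, hn⟩ := hT2.exists_card_eq
    have hdvd : 2 * Nat.card T ∣ Nat.card N := by
      refine dvd_trans ?_ (Subgroup.card_dvd_of_le (inf_le_right : U ≤ N))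
      rw [hm, hn, ← pow_succ']
      rw [hm, hn] at hlt
      exact Nat.pow_dvd_pow 2 ((Nat.pow_lt_pow_iff_right (by norm_num)).1 hlt)
    -- the orders
    have hNsup : N = A ⊔ C := by
      refine le_antisymm (fun y hy => ?_) (sup_le (fun a ha => memN.2 (hzc a ha))
        (fun c hc => memN.2 (hzcentC c hc)))
      obtain ⟨a, ha, c, hc, rfl⟩ := hdec y (memN.1 hy)
      exact mul_mem (Subgroup.mem_sup_left ha) (Subgroup.mem_sup_right hc)
    have e1 := card_sup_of_commute A C fun a ha c hc => memC hc a ha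
    have e2 := card_sup_of_commute S R fun s hs c hc => (hSR s hs c hc).symm
    rw [← hNsup] at e1
    rw [← hT] at e2
    have hSi : ∃ i, Odd i ∧ Nat.card A = Nat.card S * i := by
      refine ⟨S.relIndex A, Nat.not_even_iff_odd.1 fun h => hSodd (even_iff_two_dvd.1 h), ?_⟩
      rw [Nat.mul_comm]
      rw [← Nat.card_congr (Subgroup.subgroupOfEquivOfLe hSA).toEquiv]
      exact (Subgroup.index_mul_card (S.subgroupOf A)).symm
    have hRi : ∃ i, Odd i ∧ Nat.card C = Nat.card R * i := by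
      refine ⟨(R₀ : Subgroup C).index, Nat.not_even_iff_odd.1 fun h =>
        R₀.not_dvd_index (even_iff_two_dvd.1 h), ?_⟩
      rw [hRdef, Subgroup.card_map_of_injective C.subtype_injective, Subgroup.card_mul_index]
    obtain ⟨i, hi, eA⟩ := hSi
    obtain ⟨j, hj, eC⟩ := hRi
    obtain ⟨a, hN2⟩ := hdvd
    obtain ⟨b, hb⟩ := Subgroup.card_dvd_of_le (inf_le_inf hSA hRC : S ⊓ R ≤ A ⊓ C)
    rw [eA, eC, hN2, hb] at e1
    have hpos : 0 < Nat.card T * Nat.card ↥(S ⊓ R) := Nat.mul_pos Nat.card_pos Nat.card_pos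
    have h3 : Nat.card T * Nat.card ↥(S ⊓ R) * (2 * (a * b)) =
        Nat.card T * Nat.card ↥(S ⊓ R) * (i * j) := by
      calc _ = 2 * Nat.card T * a * (Nat.card ↥(S ⊓ R) * b) := by ring
        _ = Nat.card S * i * (Nat.card R * j) := e1
        _ = Nat.card S * Nat.card R * (i * j) := by ring
        _ = _ := by rw [e2]
    have h4 := Nat.eq_of_mul_eq_mul_left hpos h3
    exact Nat.not_even_iff_odd.2 (hi.mul hj) (h4 ▸ even_two_mul _)
  -- `T` is a Sylow subgroup of the group and its normaliser fixes `z`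
  have hfix : ∀ g ∈ Subgroup.normalizer (T : Set G), g * z * g⁻¹ = z := by
    intro g hg
    have hmap : T.map (MulAut.conj g).toMonoidHom = T := by
      ext y
      simp only [Subgroup.mem_map, MulEquiv.coe_toMonoidHom, MulAut.conj_apply]
      constructor
      · rintro ⟨t, ht, rfl⟩
        exact (Subgroup.mem_normalizer_iff.1 hg t).1 ht
      · intro hy
        exact ⟨g⁻¹ * y * g, (Subgroup.mem_normalizer_iff.1 hg _).2 (by simpa [mul_assoc] using hy),
          by group⟩
    have hzT : z ∈ T := Subgroup.mem_sup_right hzRG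
    have hxT : g * z * g⁻¹ ∈ T := (Subgroup.mem_normalizer_iff.1 hg z).1 hzT
    have hxA := hconjA g (memN.1 (hTN hxT))
    by_contra hne
    have hxS : g * z * g⁻¹ ∈ S := by
      obtain ⟨s, hs, c, hc, e⟩ := hTdec _ hxT
      have hcA : c ∈ A := by
        rw [show c = s⁻¹ * (g * z * g⁻¹) by rw [e]; group]
        exact mul_mem (A.inv_mem (hSA hs)) hxA
      have hx1 : g * z * g⁻¹ * (g * z * g⁻¹) = 1 := by
        rw [conj_sq_eq, hz2, mul_one, mul_inv_cancel]
      by_cases hcS : c ∈ S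
      · rw [e]; exact mul_mem hs hcS
      · exfalso
        -- adding `c` to `S` gives a larger `2`-subgroup of `A`
        have hle : T ⊓ A ≤ A := inf_le_right
        have hSle : S ≤ T ⊓ A := le_inf le_sup_left hSA
        have hmul := Subgroup.relIndex_mul_relIndex S (T ⊓ A) A hSle hle
        obtain ⟨k, hk⟩ := (hT2.to_le (inf_le_left : T ⊓ A ≤ T)).exists_card_eq
        have hd : S.relIndex (T ⊓ A) ∣ 2 ^ k := hk ▸ Subgroup.relIndex_dvd_card S (T ⊓ A)
        obtain ⟨l, -, hl⟩ := (Nat.dvd_prime_pow Nat.prime_two).1 hd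
        rcases l with _ | l
        · rw [pow_zero, Subgroup.relIndex_eq_one] at hl
          exact hcS (hl ⟨Subgroup.mem_sup_right hc, hcA⟩)
        · exact hSodd (hmul ▸ Dvd.dvd.mul_right (hl ▸ dvd_pow_self 2 (Nat.succ_ne_zero l)) _)
    have hx2 : g * z * g⁻¹ * (g * z * g⁻¹) = 1 := by
      rw [conj_sq_eq, hz2, mul_one, mul_inv_cancel]
    have hx1 : g * z * g⁻¹ ≠ 1 := fun e => hz1 (conj_eq_one_iff.1 e)
    have hcentral : ∀ s ∈ S, s * (g * z * g⁻¹) = g * z * g⁻¹ * s := by
      intro s hs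
      have h := memN.1 (hTN ((Subgroup.mem_normalizer_iff.1 hg (g⁻¹ * s * g)).2
        (by simpa [mul_assoc] using (Subgroup.mem_sup_left hs : s ∈ T))))
      calc s * (g * z * g⁻¹) = g * (g⁻¹ * s * g * z) * g⁻¹ := by group
        _ = g * (z * (g⁻¹ * s * g)) * g⁻¹ := by rw [h]
        _ = g * z * g⁻¹ * s := by group
    obtain ⟨w, hw, hww⟩ := hcen _ hxS hcentral hx2 hx1 hne
    have hw' : w ∈ ⁅⁅S, S⁆, S⁆.map (MulAut.conj g).toMonoidHom := by
      rw [← hTGamma, Subgroup.map_commutator, Subgroup.map_commutator, hmap, hTGamma]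
      exact hw
    obtain ⟨u, hu, rfl⟩ := hw'
    refine hsq u hu ?_
    simp only [MulEquiv.coe_toMonoidHom, MulAut.conj_apply, conj_sq_eq] at hww
    exact mul_left_cancel (mul_right_cancel hww)
  have hTsylow : ¬ 2 ∣ T.index := by
    intro h2
    have hlt : T < (P : Subgroup G) := lt_of_le_of_ne hTP fun e => P.not_dvd_index (e ▸ h2)
    haveI : Group.IsNilpotent (P : Subgroup G) := P.2.isNilpotent
    have hlt' : T.subgroupOf (P : Subgroup G) < ⊤ := by
      refine lt_top_iff_ne_top.2 fun e => hlt.not_ge ?_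
      exact Subgroup.subgroupOf_eq_top.1 e
    obtain ⟨q, hq, hqT⟩ := SetLike.exists_of_lt
      (Group.normalizerCondition_of_isNilpotent (T.subgroupOf (P : Subgroup G)) hlt')
    have hqn : (q : G) ∈ Subgroup.normalizer (T : Set G) := by
      rw [Subgroup.mem_normalizer_iff]
      intro y
      have hiff := Subgroup.mem_normalizer_iff.1 hq
      constructor
      · intro hy
        exact (hiff ⟨y, hTP hy⟩).1 (show y ∈ T from hy)
      · intro hy
        have hyP : y ∈ (P : Subgroup G) := by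
          rw [show y = (q : G)⁻¹ * ((q : G) * y * (q : G)⁻¹) * q by group]
          exact mul_mem (mul_mem (inv_mem q.2) (hTP hy)) q.2
        exact (hiff ⟨y, hyP⟩).2 (show (q : G) * y * (q : G)⁻¹ ∈ T from hy)
    exact hqT (hPN q q.2 (mul_inv_eq_iff_eq_mul.1 (hfix _ hqn)))
  let Ts : Sylow 2 G := hT2.toSylow hTsylow
  -- `z` is isolated
  have hiso : IsIsolatedInvolution z := by
    refine ⟨hz, fun g hg => ?_⟩
    by_contra hne
    have hxA := hconjA g hg.eq.symm
    obtain ⟨b, hb, hbS, hbc⟩ := hinv _ hxA (by rw [conj_sq_eq, hz2, mul_one, mul_inv_cancel])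
      (fun e => hz1 (conj_eq_one_iff.1 e)) hne
    have hTcoe : (Ts : Subgroup G) = T := rfl
    have hz' : z ∈ Subgroup.centralizer ((Ts : Subgroup G) : Set G) :=
      Subgroup.mem_centralizer_iff.2 fun t ht => memN.1 (hTN (hTcoe ▸ ht))
    set x' := b * (g * z * g⁻¹) * b⁻¹ with hx'
    have hx'c : x' ∈ Subgroup.centralizer ((Ts : Subgroup G) : Set G) := by
      refine Subgroup.mem_centralizer_iff.2 fun t ht => ?_
      obtain ⟨s, hs, c, hc, rfl⟩ := hTdec t (hTcoe ▸ ht)
      have hcx : Commute c x' := (memC (hRC hc) x' (hSA hbS)).symm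
      exact ((show Commute s x' from hbc s hs).mul_left hcx).eq
    have e : (g⁻¹ * b⁻¹)⁻¹ * z * (g⁻¹ * b⁻¹) = x' := by rw [hx']; group
    obtain ⟨n, hn, hne'⟩ := Ts.conj_eq_normalizer_conj_of_mem_centralizer z (g⁻¹ * b⁻¹) hz'
      (e ▸ hx'c)
    have hfn := hfix n⁻¹ (inv_mem (hTcoe ▸ hn))
    rw [inv_inv] at hfn
    rw [e, hfn, hx'] at hne'
    refine hne ?_
    calc g * z * g⁻¹ = b⁻¹ * (b * (g * z * g⁻¹) * b⁻¹) * b := by group
      _ = b⁻¹ * (z * b) := by rw [hne', mul_assoc]
      _ = b⁻¹ * (b * z) := by rw [← hzc b hb]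
      _ = z := inv_mul_cancel_left b z
  have hzcenter := ZStar.mem_center_of_isolated hiso fun M hM ho => le_bot_iff.1
    (hO ▸ (le_sSup ⟨hM, Nat.coprime_two_right.2 ho⟩ : M ≤ Cfsg.oddCore G))
  rw [← Subgroup.normalizer_eq_top_iff, eq_top_iff]
  intro g _
  exact hCle (memN.2 (Subgroup.mem_center_iff.1 hzcenter g))

end CfsgLib.StdDoubleRu
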