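import Cfsg.Agent.Ru.Mult

/-!
Normal forms in the Sylow `2`-subgroup `P2` of the double cover of `Ru`: a number below `2 ^ 15`
names the product of the polycyclic generators at its bits, and products are collected by the rules.
-/

set_option autoImplicit false
set_option Elab.async false

namespace CfsgLib.StdDoubleRu

open Cfsg.Spor CfsgLib.Ru
open CfsgLib.Schur.Pc (ev tailSubgroup gen_mem_tailSubgroup tailSubgroup_mono)

/-- The bits below `k`. -/
def bitsK (k v : ℕ) : List ℕ := (List.range k).filter fun i => v.testBit i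

/-- The element named by a number. -/
noncomputable def val (v : ℕ) : fourRu := ev yEl (bitsK 15 v)

theorem bitsK_succ (k v : ℕ) :
    bitsK (k + 1) v = bitsK k v ++ if v.testBit k then [k] else [] := by
  cases h : v.testBit k <;> simp [bitsK, List.range_succ, List.filter_append, h]

theorem bitsK_congr {k u v : ℕ} (h : ∀ i < k, u.testBit i = v.testBit i) :
    bitsK k u = bitsK k v :=
  List.filter_congr fun i hi => h i (List.mem_range.1 hi)

theorem bitsK_of_lt {j v : ℕ} (h : v < 2 ^ j) : ∀ k, j ≤ k → bitsK k v = bitsK j v := by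
  intro k hk
  induction k, hk using Nat.le_induction with
  | base => rfl
  | succ k hk ih =>
    rw [bitsK_succ, ih, Nat.testBit_lt_two_pow (lt_of_lt_of_le h (Nat.pow_le_pow_right (by norm_num) hk))]
    simp

theorem bitsK_top {b v : ℕ} (h1 : 2 ^ b ≤ v) (h2 : v < 2 ^ (b + 1)) (hb : b < 15) :
    bitsK 15 v = bitsK 15 (v - 2 ^ b) ++ [b] := by
  have hw : v - 2 ^ b < 2 ^ b := by rw [pow_succ] at h2; omega
  have hv : v = 2 ^ b + (v - 2 ^ b) := by omega
  rw [bitsK_of_lt h2 15 (by omega), bitsK_of_lt hw 15 hb.le, bitsK_succ]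
  have ht : v.testBit b = true := by
    rw [hv, Nat.testBit_two_pow_add_eq, Nat.testBit_lt_two_pow hw]; rfl
  rw [ht, if_pos rfl]
  congr 1
  refine bitsK_congr fun i hi => ?_
  conv_lhs => rw [hv, Nat.testBit_two_pow_add_gt hi]

theorem val_zero : val 0 = 1 := by
  have h : bitsK 15 0 = [] := by simp [bitsK]
  rw [val, h, Schur.Pc.ev_nil]

theorem val_top {b v : ℕ} (h1 : 2 ^ b ≤ v) (h2 : v < 2 ^ (b + 1)) (hb : b < 15) :
    val v = val (v - 2 ^ b) * yEl b := by
  rw [val, bitsK_top h1 h2 hb, Schur.Pc.ev_append, Schur.Pc.ev_cons, Schur.Pc.ev_nil, mul_one, val]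

theorem val_two_pow {a : ℕ} (ha : a < 15) : val (2 ^ a) = yEl a := by
  rw [val_top le_rfl (Nat.pow_lt_pow_succ (by norm_num)) ha, Nat.sub_self, val_zero, one_mul]

/-- The largest bit, below `15`. -/
noncomputable def topB (v : ℕ) : ℕ :=
  Nat.rec 0 (fun k ih => bif Nat.ble (2 ^ (k + 1)) v then k + 1 else ih) 14

theorem topB_spec {v : ℕ} (h0 : 0 < v) (h : v < 2 ^ 15) :
    topB v < 15 ∧ 2 ^ topB v ≤ v ∧ v < 2 ^ (topB v + 1) := by
  have key : ∀ n, n ≤ 14 →
      let r : ℕ := Nat.rec 0 (fun k ih => bif Nat.ble (2 ^ (k + 1)) v then k + 1 else ih) n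
      r ≤ n ∧ 2 ^ r ≤ v ∧ ∀ j, r < j → j ≤ n → v < 2 ^ j := by
    intro n
    induction n with
    | zero => intro _; exact ⟨le_rfl, Nat.succ_le_of_lt h0, fun j h1 h2 => by omega⟩
    | succ n ih =>
      intro hn
      obtain ⟨a, b, c⟩ := ih (by omega)
      by_cases hb : 2 ^ (n + 1) ≤ v
      · simp only [Nat.ble_eq_true_of_le hb, cond_true]
        exact ⟨le_rfl, hb, fun j h1 h2 => by omega⟩
      · have hb' : Nat.ble (2 ^ (n + 1)) v = false := by
          rw [← Bool.not_eq_true]; exact fun e => hb (Nat.le_of_ble_eq_true e)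
        simp only [hb', cond_false]
        refine ⟨by omega, b, fun j h1 h2 => ?_⟩
        rcases Nat.eq_or_lt_of_le h2 with e | e
        · subst e; omega
        · exact c j h1 (by omega)
  obtain ⟨a, b, c⟩ := key 14 le_rfl
  change topB v ≤ 14 at a
  change 2 ^ topB v ≤ v at b
  change ∀ j, topB v < j → j ≤ 14 → v < 2 ^ j at c
  refine ⟨by omega, b, ?_⟩
  rcases Nat.lt_or_ge (topB v) 14 with e | e
  · exact c _ (Nat.lt_succ_self _) e
  · rw [show topB v = 14 by omega]; exact h

/-- Right multiplication of a normal form by a generator. -/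
noncomputable def app (f : ℕ) : ℕ → ℕ → Option ℕ :=
  Nat.rec (fun _ _ => none)
    (fun _ ih v a => force v fun v => bif Nat.blt v (2 ^ a) then force (v + 2 ^ a) some else
      force (topB v) fun b => (cert2.rule b a).foldlM ih (v - 2 ^ b)) f

/-- The fuel of the collection. -/
def fuel : ℕ := 40

/-- A word as a normal form, after a normal form. -/
noncomputable def wordO (v : ℕ) (w : List ℕ) : Option ℕ := w.foldlM (app fuel) v

/-- The product of two normal forms. -/
noncomputable def mulO (v u : ℕ) : Option ℕ :=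
  force v fun v => force u fun u => wordO v (bitsK 15 u)

theorem rule_lt : ∀ b < 15, ∀ a ≤ b, (cert2.rule b a).all (fun c => Nat.blt c 15) = true := by
  decide +kernel

theorem foldlM_sound {g : ℕ → ℕ → Option ℕ}
    (hg : ∀ v a r, v < 2 ^ 15 → a < 15 → g v a = some r → r < 2 ^ 15 ∧ val r = val v * yEl a) :
    ∀ (w : List ℕ) (v r : ℕ), v < 2 ^ 15 → (∀ c ∈ w, c < 15) → w.foldlM g v = some r →
      r < 2 ^ 15 ∧ val r = val v * ev yEl w
  | [], v, r, hv, _, h => by
    cases h
    exact ⟨hv, by rw [Schur.Pc.ev_nil, mul_one]⟩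
  | c :: w, v, r, hv, hw, h => by
    rw [List.foldlM_cons, Option.bind_eq_bind, Option.bind_eq_some_iff] at h
    obtain ⟨u, hu, hr⟩ := h
    obtain ⟨hu1, hu2⟩ := hg v c u hv (hw c (by simp)) hu
    obtain ⟨hr1, hr2⟩ := foldlM_sound hg w u r hu1 (fun x hx => hw x (by simp [hx])) hr
    exact ⟨hr1, by rw [hr2, hu2, Schur.Pc.ev_cons, mul_assoc]⟩

theorem app_sound : ∀ f v a r, v < 2 ^ 15 → a < 15 → app f v a = some r →
    r < 2 ^ 15 ∧ val r = val v * yEl a := by
  intro f
  induction f with
  | zero => intro v a r _ _ h; exact absurd h (by simp [app])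
  | succ f ih =>
    intro v a r hv ha h
    change (force v fun v => bif Nat.blt v (2 ^ a) then force (v + 2 ^ a) some else
      force (topB v) fun b => (cert2.rule b a).foldlM (app f) (v - 2 ^ b)) = some r at h
    simp only [force_eq] at h
    by_cases hlt : v < 2 ^ a
    · rw [show Nat.blt v (2 ^ a) = true from Nat.ble_eq_true_of_le hlt, cond_true, Option.some.injEq] at h
      subst h
      have h2 : v + 2 ^ a < 2 ^ (a + 1) := by rw [pow_succ]; omega
      refine ⟨lt_of_lt_of_le h2 (Nat.pow_le_pow_right (by norm_num) ha), ?_⟩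
      rw [val_top (Nat.le_add_left _ _) h2 ha, Nat.add_sub_cancel]
    · rw [show Nat.blt v (2 ^ a) = false by
        rw [← Bool.not_eq_true]; exact fun e => hlt (Nat.le_of_ble_eq_true e), cond_false] at h
      obtain ⟨hb, h1, h2⟩ := topB_spec (lt_of_lt_of_le (Nat.two_pow_pos a) (not_lt.1 hlt)) hv
      have hab : a ≤ topB v := by
        by_contra e
        exact hlt (lt_of_lt_of_le h2 (Nat.pow_le_pow_right (by norm_num) (by omega)))
      have hr := List.all_eq_true.1 (rule_lt _ hb a hab)
      obtain ⟨hr1, hr2⟩ := foldlM_sound ih _ _ _ (by omega) (fun c hc => Nat.le_of_ble_eq_true (hr c hc)) h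
      exact ⟨hr1, by rw [hr2, ← rules_hold a _ hab hb, val_top h1 h2 hb, mul_assoc]⟩

theorem wordO_sound {v r : ℕ} {w : List ℕ} (hv : v < 2 ^ 15) (hw : ∀ c ∈ w, c < 15)
    (h : wordO v w = some r) : r < 2 ^ 15 ∧ val r = val v * ev yEl w :=
  foldlM_sound (app_sound fuel) w v r hv hw h

theorem mulO_sound {v u r : ℕ} (hv : v < 2 ^ 15) (h : mulO v u = some r) :
    r < 2 ^ 15 ∧ val r = val v * val u := by
  rw [mulO, force_eq, force_eq] at h
  exact wordO_sound hv (fun c hc => List.mem_range.1 (List.mem_filter.1 hc).1) h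

theorem val_mem_P2 (v : ℕ) : val v ∈ P2 :=
  Schur.Pc.ev_mem yEl fun _ ha =>
    gen_mem_tailSubgroup yEl (Nat.zero_le _) (List.mem_range.1 (List.mem_filter.1 ha).1)

/-! ### The tails -/

/-- The bits at and above `k`. -/
noncomputable def upper (k v : ℕ) : fourRu :=
  ev yEl ((List.range' k (15 - k)).filter fun i => v.testBit i)

theorem val_split {k : ℕ} (hk : k ≤ 15) (v : ℕ) :
    val v = ev yEl (bitsK k v) * upper k v := by
  have hr : List.range 15 = List.range k ++ List.range' k (15 - k) := by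
    rw [List.range_eq_range', List.range_eq_range']
    conv_rhs => arg 2; arg 1; rw [← Nat.zero_add k]
    rw [List.range'_append_1, show k + (15 - k) = 15 by omega]
  rw [val, bitsK, hr, List.filter_append, Schur.Pc.ev_append]
  rfl

theorem upper_mem {k : ℕ} (hk : k ≤ 15) (v : ℕ) : upper k v ∈ tailSubgroup yEl 15 k :=
  Schur.Pc.ev_mem yEl fun a ha => by
    have := List.mem_range'_1.1 (List.mem_filter.1 ha).1
    exact gen_mem_tailSubgroup yEl this.1 (by omega)

theorem upper_succ {k : ℕ} (hk : k < 15) (v : ℕ) :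
    upper k v = (if v.testBit k then yEl k else 1) * upper (k + 1) v := by
  have hr : List.range' k (15 - k) = k :: List.range' (k + 1) (15 - (k + 1)) := by
    conv_lhs => rw [show 15 - k = (15 - (k + 1)) + 1 by omega, List.range'_succ]
  rw [upper, hr]
  cases h : v.testBit k <;> simp [upper, h, Schur.Pc.ev_cons]

theorem upper_injective {u v : ℕ} : ∀ {k : ℕ}, k ≤ 15 → upper k u = upper k v →
    ∀ i, k ≤ i → i < 15 → u.testBit i = v.testBit i := by
  intro k hk e i hi hi'
  induction hk using Nat.decreasingInduction generalizing i with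
  | self => omega
  | of_succ k hk ih =>
    rw [upper_succ hk, upper_succ hk] at e
    have hbit : u.testBit k = v.testBit k := by
      by_contra hne
      refine not_mem_later hk ?_
      rcases Bool.eq_false_or_eq_true (u.testBit k) with hu | hu
      · rw [hu, show v.testBit k = false by simpa [hu] using hne] at e
        simp only [if_true, if_false, one_mul, Bool.false_eq_true] at e
        rw [show yEl k = upper (k + 1) v * (upper (k + 1) u)⁻¹ by rw [← e, mul_inv_cancel_right]]
        exact mul_mem (upper_mem hk _) (inv_mem (upper_mem hk _))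
      · rw [hu, show v.testBit k = true by simpa [hu] using hne] at e
        simp only [if_true, if_false, one_mul, Bool.false_eq_true] at e
        rw [show yEl k = upper (k + 1) u * (upper (k + 1) v)⁻¹ by rw [e, mul_inv_cancel_right]]
        exact mul_mem (upper_mem hk _) (inv_mem (upper_mem hk _))
    rcases Nat.eq_or_lt_of_le hi with rfl | hlt
    · exact hbit
    · rw [hbit] at e
      exact ih (mul_left_cancel e) i hlt hi'

theorem val_eq_upper (v : ℕ) : val v = upper 0 v := by
  rw [val_split (Nat.zero_le 15), show bitsK 0 v = [] from rfl, Schur.Pc.ev_nil, one_mul]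

theorem val_injective {u v : ℕ} (hu : u < 2 ^ 15) (hv : v < 2 ^ 15) (e : val u = val v) : u = v := by
  rw [val_eq_upper, val_eq_upper] at e
  refine Nat.eq_of_testBit_eq fun i => ?_
  by_cases hi : i < 15
  · exact upper_injective (Nat.zero_le _) e i (Nat.zero_le _) hi
  · have hp := Nat.pow_le_pow_right (show 0 < 2 by norm_num) (not_lt.1 hi)
    rw [Nat.testBit_lt_two_pow (lt_of_lt_of_le hu hp), Nat.testBit_lt_two_pow (lt_of_lt_of_le hv hp)]

theorem mod_two_pow_succ (v k : ℕ) :
    v % 2 ^ (k + 1) = v % 2 ^ k + 2 ^ k * (v.testBit k).toNat := by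
  rw [Nat.mod_pow_succ, Nat.toNat_testBit]

theorem mod_eq_zero_of_val_mem {v : ℕ} : ∀ {k : ℕ}, k ≤ 15 → val v ∈ tailSubgroup yEl 15 k →
    v % 2 ^ k = 0 := by
  intro k hk h
  induction k with
  | zero => exact Nat.mod_one _
  | succ k ih =>
    have hz := ih (by omega) (tailSubgroup_mono yEl (Nat.le_succ k) h)
    have hbit : v.testBit k = false := by
      by_contra hb
      rw [Bool.not_eq_false] at hb
      refine not_mem_later (i := k) hk ?_
      have hnil : bitsK k v = [] := List.filter_eq_nil_iff.2 fun i hi => by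
        have e : (v % 2 ^ k).testBit i = v.testBit i := by simp [List.mem_range.1 hi]
        rw [← e, hz]
        simp
      rw [val_split (by omega : k ≤ 15), hnil, Schur.Pc.ev_nil, one_mul, upper_succ hk, if_pos hb]
        at h
      simpa [mul_assoc] using mul_mem h (inv_mem (upper_mem hk v))
    rw [mod_two_pow_succ, hz, hbit]
    simp

theorem exists_val {g : fourRu} (hg : g ∈ P2) : ∃ v < 2 ^ 15, val v = g := by
  have hsub : val '' Set.Iio (2 ^ 15) ⊆ (P2 : Set fourRu) := by
    rintro _ ⟨v, -, rfl⟩; exact val_mem_P2 v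
  have hc : (val '' Set.Iio (2 ^ 15)).ncard = 2 ^ 15 := by
    have hinj : Set.InjOn val (Set.Iio (2 ^ 15)) := fun u hu v hv e => val_injective hu hv e
    rw [hinj.ncard_image, ← Finset.coe_Iio, Set.ncard_coe_finset, Nat.card_Iio]
  have he := Set.eq_of_subset_of_ncard_le hsub (by rw [hc]; exact card_P2.le) (Set.toFinite _)
  obtain ⟨v, hv, e⟩ := he.ge hg
  exact ⟨v, hv, e⟩

/-- The later part of a rule starts above the larger index. -/
theorem rule_tail : ∀ b < 15, ∀ a < b,
    (cert2.rule b a).head? = some a ∧ (cert2.rule b a).tail.all (fun c => Nat.ble b c) = true := by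
  decide +kernel

/-- The tails are normalised by the Sylow subgroup. -/
theorem tail_conj {k : ℕ} {g x : fourRu} (hg : g ∈ P2) (hx : x ∈ tailSubgroup yEl 15 k) :
    g * x * g⁻¹ ∈ tailSubgroup yEl 15 k := by
  have hgen : ∀ a < 15, ∀ b, k ≤ b → b < 15 → (yEl a)⁻¹ * yEl b * yEl a ∈ tailSubgroup yEl 15 k := by
    intro a ha b hb hb'
    rcases Nat.lt_trichotomy a b with h | rfl | h
    · obtain ⟨h1, h2⟩ := rule_tail b hb' a h
      obtain ⟨r, hr⟩ := List.head?_eq_some_iff.1 h1
      have hlt := List.all_eq_true.1 (rule_lt b hb' a h.le)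
      rw [mul_assoc, rules_hold a b h.le hb', hr, Schur.Pc.ev_cons, inv_mul_cancel_left]
      refine Schur.Pc.ev_mem yEl fun c hc => gen_mem_tailSubgroup yEl ?_
        (Nat.le_of_ble_eq_true (hlt c (by rw [hr]; exact List.mem_cons_of_mem _ hc)))
      rw [hr, List.tail_cons] at h2
      exact hb.trans (Nat.le_of_ble_eq_true (List.all_eq_true.1 h2 c hc))
    · rw [inv_mul_cancel, one_mul]; exact gen_mem_tailSubgroup yEl hb hb'
    · exact mul_mem (mul_mem (inv_mem (gen_mem_tailSubgroup yEl (by omega) ha))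
        (gen_mem_tailSubgroup yEl hb hb')) (gen_mem_tailSubgroup yEl (by omega) ha)
  let T := tailSubgroup yEl 15 k
  have hle : P2 ≤ Subgroup.normalizer (T : Set fourRu) := by
    rw [P2, tailSubgroup, Subgroup.closure_le]
    rintro _ ⟨a, ⟨-, ha⟩, rfl⟩
    have hmap : T ≤ T.comap (MulAut.conj (yEl a)⁻¹).toMonoidHom := by
      conv_lhs => rw [show T = tailSubgroup yEl 15 k from rfl, tailSubgroup]
      rw [Subgroup.closure_le]
      rintro _ ⟨b, ⟨hb1, hb2⟩, rfl⟩
      show (yEl a)⁻¹ * yEl b * (yEl a)⁻¹⁻¹ ∈ T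
      rw [inv_inv]
      exact hgen a ha b hb1 hb2
    have heq : T.map (MulAut.conj (yEl a)⁻¹).toMonoidHom = T :=
      Subgroup.eq_of_le_of_card_ge (Subgroup.map_le_iff_le_comap.2 hmap)
        (Subgroup.card_map_of_injective (MulAut.conj (yEl a)⁻¹).injective).ge
    have hinv : (yEl a)⁻¹ ∈ Subgroup.normalizer (T : Set fourRu) := by
      rw [Subgroup.mem_normalizer_iff]
      intro y
      refine ⟨fun hy => heq.le ⟨y, hy, rfl⟩, fun hy => ?_⟩
      obtain ⟨z, hz, e⟩ := heq.ge hy
      rwa [← (MulAut.conj (yEl a)⁻¹).injective e]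
    simpa using inv_mem hinv
  exact (Subgroup.mem_normalizer_iff.1 (hle hg) x).1 hx

end CfsgLib.StdDoubleRu
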